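import Groth.Agent.SymCmp.Compare
import Mathlib.AlgebraicGeometry.Morphisms.IsIso
import Mathlib.LinearAlgebra.TensorProduct.Basic

/-!
# Comparison morphisms: closed immersions, and the case where `d!` is invertible
-/

set_option linter.style.haveILetI false

universe u

open CategoryTheory CategoryTheory.Limits AlgebraicGeometry TopologicalSpace SymProd
open scoped TensorProduct

namespace Groth.Agent.SymCmp

theorem bijective_map_eqToHom {A : Scheme.{u}} {U V : A.Opens} (h : U = V) :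
    Function.Bijective (A.presheaf.map (eqToHom h).op).hom := by
  subst h
  simpa using Function.bijective_id

theorem isClosedImmersion_of_cover {A T : Scheme.{u}} (m : A ⟶ T)
    (h : ∀ y : T, ∃ U : T.Opens, y ∈ U ∧ IsAffineOpen U ∧ IsAffineOpen (m ⁻¹ᵁ U) ∧
      Function.Surjective (m.app U).hom) : IsClosedImmersion m := by
  choose U hy hU hmU hs using h
  rw [HasAffineProperty.iff_of_iSup_eq_top (P := @IsClosedImmersion) fun i => (⟨U i, hU i⟩ : T.affineOpens)]
  · refine fun i => ⟨hmU i, ?_⟩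
    rw [morphismRestrict_appTop]
    have key : Function.Surjective (m.app ((U i).ι ''ᵁ ⊤)).hom := by
      have e := (U i).ι_image_top
      revert e
      generalize (U i).ι ''ᵁ ⊤ = V
      rintro rfl
      exact hs i
    exact (bijective_map_eqToHom _).2.comp key
  · exact top_le_iff.mp fun x _ => Opens.mem_iSup.mpr ⟨x, hy x⟩

theorem isIso_of_cover {A T : Scheme.{u}} (m : A ⟶ T)
    (h : ∀ y : T, ∃ U : T.Opens, y ∈ U ∧ IsAffineOpen U ∧ IsAffineOpen (m ⁻¹ᵁ U) ∧
      Function.Bijective (m.app U).hom) : IsIso m := by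
  choose U hy hU hmU hs using h
  change MorphismProperty.isomorphisms Scheme m
  rw [HasAffineProperty.iff_of_iSup_eq_top (P := MorphismProperty.isomorphisms Scheme)
    fun i => (⟨U i, hU i⟩ : T.affineOpens)]
  · refine fun i => ⟨hmU i, ?_⟩
    rw [morphismRestrict_appTop, ConcreteCategory.isIso_iff_bijective]
    have key : Function.Bijective (m.app ((U i).ι ''ᵁ ⊤)).hom := by
      have e := (U i).ι_image_top
      revert e
      generalize (U i).ι ''ᵁ ⊤ = V
      rintro rfl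
      exact hs i
    exact (bijective_map_eqToHom _).comp key
  · exact top_le_iff.mp fun x _ => Opens.mem_iSup.mpr ⟨x, hy x⟩

/-- If invariant sections come from `T`, the map from the quotient is surjective on sections. -/
theorem app_surjective_of_invariants {P' Y' T : Scheme.{u}} {G : Type u} [Group G] {ρ' : G →* Aut P'}
    {r : P' ⟶ Y'} (hr : SGA1.IsQuot ρ' r) (m : Y' ⟶ T)
    (hinv : ∀ σ, (ρ' σ).hom ≫ r ≫ m = r ≫ m) (V' : T.Opens)
    (h : ∀ c, InvOn ρ' (fun σ => SGA1.preimage_le_of_inv ρ' (r ≫ m) hinv σ V') c →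
      c ∈ Set.range ((r ≫ m).app V').hom) : Function.Surjective (m.app V').hom := by
  intro a
  obtain ⟨t, ht⟩ := h ((r.app (m ⁻¹ᵁ V')).hom a)
    (fun σ => (hr.range_iff (m ⁻¹ᵁ V') _).mp ⟨a, rfl⟩ σ)
  refine ⟨t, hr.injective _ ?_⟩
  rw [← ht]
  rfl

/-- Averaging: base change of an inclusion with a trace is injective if the trace of `1` is a unit. -/
theorem injective_of_isPushout {A B C D : CommRingCat.{u}} {a : A ⟶ B} {b : A ⟶ C} {c : B ⟶ D}
    {e : C ⟶ D} (h : IsPushout a b c e) (tr : B →+ A)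
    (htr : ∀ x y, tr (a.hom x * y) = x * tr y) (n : ℕ) (h1 : tr 1 = n)
    (hn : IsUnit (n : C)) : Function.Injective e.hom := by
  letI : Algebra A B := a.hom.toAlgebra
  letI : Algebra A C := b.hom.toAlgebra
  let trl : B →ₗ[A] A :=
    { toFun := tr
      map_add' := map_add tr
      map_smul' := fun x y => by
        rw [Algebra.smul_def, RingHom.algebraMap_toAlgebra]; exact htr x y }
  have hpo : IsPushout a b
      (CommRingCat.ofHom (Algebra.TensorProduct.includeLeftRingHom (R := A) (A := B) (B := C)))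
      (CommRingCat.ofHom (Algebra.TensorProduct.includeRight (R := A) (A := B) (B := C)).toRingHom) :=
    CommRingCat.isPushout_tensorProduct A B C
  let L := h.desc _ _ hpo.w
  intro x y hxy
  have hL : e ≫ L = CommRingCat.ofHom
      (Algebra.TensorProduct.includeRight (R := A) (A := B) (B := C)).toRingHom := h.inr_desc _ _ _
  have key : ((1 : B) ⊗ₜ[A] x : B ⊗[A] C) = (1 : B) ⊗ₜ[A] y := by
    have := congrArg L.hom hxy
    rw [← CommRingCat.comp_apply, ← CommRingCat.comp_apply] at this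
    erw [hL] at this
    exact this
  have h2 := congrArg ((TensorProduct.lid A C).toLinearMap ∘ₗ
    TensorProduct.map trl LinearMap.id) key
  simp only [LinearMap.comp_apply, TensorProduct.map_tmul, LinearEquiv.coe_coe,
    TensorProduct.lid_tmul, LinearMap.id_apply] at h2
  change tr 1 • x = tr 1 • y at h2
  rw [h1, Algebra.smul_def, Algebra.smul_def, map_natCast] at h2
  exact hn.mul_right_injective h2

section

variable {X Z S S' P' T Y : Scheme.{u}} {d : ℕ} {f : X ⟶ S} {gS : S' ⟶ S} {q : fibPow f d ⟶ Y}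
  {g : Y ⟶ S} {fZ : Z ⟶ S} (i : Z ⟶ X) (w : i ≫ f = fZ)
  {π₁ : P' ⟶ fibPow fZ d} {π₂ : P' ⟶ S'} (ρ' : ULift.{u} (Equiv.Perm (Fin d)) →* Aut P')
  {u : P' ⟶ T} {pT : T ⟶ Y} {pS : T ⟶ S'}

include w in
/-- When `d!` is invertible, invariant sections over the preimage of `V × S0'` come from `T`. -/
theorem mem_range_of_isUnit (hq : IsSymProd f d q g) [IsClosedImmersion i]
    (hP : IsPullback π₁ π₂ (WidePullback.base fun _ : Fin d => fZ) gS)
    (hρ₁ : ∀ σ, (ρ' σ).hom ≫ π₁ = π₁ ≫ permHom fZ d σ.down)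
    (hinv : ∀ σ, (ρ' σ).hom ≫ u = u) (huT : u ≫ pT = (π₁ ≫ fibPowMap fZ d f i w) ≫ q)
    (huS : u ≫ pS = π₂) {V : Y.Opens} (hV : IsAffineOpen V) {S0 : S.Opens} (hS0 : IsAffineOpen S0)
    (hVS : V ≤ g ⁻¹ᵁ S0) {S0' : S'.Opens} (hS0' : IsAffineOpen S0') (hle : S0' ≤ gS ⁻¹ᵁ S0)
    (hn : IsUnit ((Nat.card (ULift.{u} (Equiv.Perm (Fin d))) : ℕ) : Γ(S', S0')))
    {V' : T.Opens} (hV' : V' = pT ⁻¹ᵁ V ⊓ pS ⁻¹ᵁ S0') (c : Γ(P', u ⁻¹ᵁ V'))
    (hc : InvOn ρ' (fun σ => SGA1.preimage_le_of_inv ρ' u hinv σ V') c) :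
    c ∈ Set.range (u.app V').hom := by
  classical
  haveI := hq.isQuot.affine
  haveI := isClosedImmersion_fibPowMap i w d
  let Φ := fibPowMap fZ d f i w
  let W : (fibPow f d).Opens := q ⁻¹ᵁ V
  let W' : P'.Opens := u ⁻¹ᵁ V'
  have hW'eq : W' = π₁ ⁻¹ᵁ (Φ ⁻¹ᵁ W) ⊓ π₂ ⁻¹ᵁ S0' := by
    simp only [W', W, hV', Φ, Scheme.Hom.preimage_inf, ← Scheme.Hom.comp_preimage, huT, huS,
      Category.assoc]
  have hWS : Φ ⁻¹ᵁ W ≤ (WidePullback.base fun _ : Fin d => fZ) ⁻¹ᵁ S0 := by
    rw [← fibPowMap_base fZ d f i w, ← hq.over, ← Category.assoc, Scheme.Hom.comp_preimage,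
      Scheme.Hom.comp_preimage]
    exact fun x hx => hVS hx
  let R : Subring Γ(P', W') := (u.app V').hom.range
  let act : ULift.{u} (Equiv.Perm (Fin d)) → (Γ(P', W') →+* Γ(P', W')) := fun σ =>
    ((ρ' σ).hom.appLE W' W' (SGA1.preimage_le_of_inv ρ' u hinv σ V')).hom
  let actB : ULift.{u} (Equiv.Perm (Fin d)) → (Γ(fibPow f d, W) →+* Γ(fibPow f d, W)) := fun σ =>
    ((permActU f d σ).hom.appLE W W (SGA1.preimage_le_of_inv _ q hq.isQuot.inv σ V)).hom
  cases nonempty_fintype (ULift.{u} (Equiv.Perm (Fin d)))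
  have hsum : ∀ y : Γ(P', W'), ∑ σ, act σ y ∈ R := by
    intro y
    have := mem_closure_products hP hS0 hS0' ((hV.preimage q).preimage Φ) hle hWS hW'eq y
    induction this using AddSubmonoid.closure_induction with
    | zero => simp only [map_zero, Finset.sum_const_zero]; exact zero_mem _
    | add a b _ _ ha hb => simp only [map_add, Finset.sum_add_distrib]; exact add_mem ha hb
    | mem t ht =>
      obtain ⟨s, x, rfl⟩ := ht
      obtain ⟨x', rfl⟩ := Φ.app_surjective W (hV.preimage q) x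
      have hW'Φ : W' ≤ (π₁ ≫ Φ) ⁻¹ᵁ W := hW'eq.le.trans inf_le_left
      have key : ∀ σ, act σ ((π₂.appLE S0' W' (hW'eq.le.trans inf_le_right)).hom s *
          (π₁.appLE (Φ ⁻¹ᵁ W) W' (hW'eq.le.trans inf_le_left)).hom ((Φ.app W).hom x')) =
          (π₂.appLE S0' W' (hW'eq.le.trans inf_le_right)).hom s *
            ((π₁ ≫ Φ).appLE W W' hW'Φ).hom (actB σ x') := by
        intro σ
        have e1 : (ρ' σ).hom ≫ π₂ = π₂ := by rw [← huS, ← Category.assoc, hinv]
        have e2 : (ρ' σ).hom ≫ π₁ ≫ Φ = (π₁ ≫ Φ) ≫ (permActU f d σ).hom := by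
          rw [← Category.assoc, hρ₁, Category.assoc, Category.assoc]
          congr 1
          refine WidePullback.hom_ext _ _ _ (fun j => ?_) ?_ <;> simp [Φ]
        simp only [act, actB, map_mul, ← CommRingCat.comp_apply, Scheme.Hom.app_eq_appLE,
          Scheme.Hom.appLE_comp_appLE, e1, e2]
      refine Eq.subst (motive := (· ∈ R)) (Finset.sum_congr rfl fun σ _ => (key σ).symm) ?_
      rw [← Finset.mul_sum, ← map_sum]
      obtain ⟨v, hv⟩ := (hq.isQuot.range_iff V (∑ σ, actB σ x')).mpr fun τ => by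
        change actB τ _ = _
        rw [map_sum]
        exact Fintype.sum_equiv (Equiv.mulRight τ) _ _ fun σ => act_mul_apply (ρ := permActU f d)
          (fun σ => SGA1.preimage_le_of_inv _ q hq.isQuot.inv σ V) σ τ x'
      rw [← hv]
      refine ⟨(pS.appLE S0' V' (hV'.le.trans inf_le_right)).hom s *
        (pT.appLE V V' (hV'.le.trans inf_le_left)).hom v, ?_⟩
      simp only [Scheme.Hom.app_eq_appLE, map_mul, ← CommRingCat.comp_apply,
        Scheme.Hom.appLE_comp_appLE, huS, huT]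
      congr 1
      change _ = (q.appLE V (q ⁻¹ᵁ V) le_rfl ≫ (π₁ ≫ Φ).appLE (q ⁻¹ᵁ V) W' hW'Φ).hom v
      rw [Scheme.Hom.appLE_comp_appLE]
  obtain ⟨n', hn'⟩ := (hn.map (pS.appLE S0' V' (hV'.le.trans inf_le_right)).hom).exists_left_inv
  rw [map_natCast] at hn'
  have hc' : ∑ σ, act σ c = (Nat.card (ULift.{u} (Equiv.Perm (Fin d))) : Γ(P', W')) * c := by
    rw [Finset.sum_congr rfl fun σ _ => (hc σ : act σ c = c), Finset.sum_const, nsmul_eq_mul,
      Finset.card_univ, Nat.card_eq_fintype_card]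
  have h := mul_mem (show (u.app V').hom n' ∈ R from ⟨n', rfl⟩) (hsum c)
  rw [hc', ← mul_assoc, ← map_natCast (u.app V').hom, ← map_mul, hn', map_one, one_mul] at h
  exact h

end

/-- When `d!` is invertible, sections of the base change of `Y` inject into those of the fibre power. -/
theorem injective_app_of_isUnit {P P' T Y : Scheme.{u}} {G : Type u} [Group G] [Finite G]
    {ρ : G →* Aut P} {q : P ⟶ Y} (hq : SGA1.IsQuot ρ q) {Φ : P' ⟶ P} {u : P' ⟶ T} {pT : T ⟶ Y}
    (hsq : IsPullback Φ u q pT) {V : Y.Opens} (hV : IsAffineOpen V) {V' : T.Opens}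
    (hV' : IsAffineOpen V') (hle : V' ≤ pT ⁻¹ᵁ V) (hn : IsUnit ((Nat.card G : ℕ) : Γ(T, V'))) :
    Function.Injective (u.app V').hom := by
  classical
  cases nonempty_fintype G
  haveI := hq.affine
  let W := q ⁻¹ᵁ V
  let actB : G → (Γ(P, W) →+* Γ(P, W)) := fun σ =>
    ((ρ σ).hom.appLE W W (SGA1.preimage_le_of_inv ρ q hq.inv σ V)).hom
  have hex : ∀ x : Γ(P, W), ∃ v, (q.app V).hom v = ∑ σ, actB σ x := fun x =>
    (hq.range_iff V _).mpr fun τ => by
      change actB τ _ = _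
      rw [map_sum]
      exact Fintype.sum_equiv (Equiv.mulRight τ) _ _ fun σ => act_mul_apply (ρ := ρ)
        (fun σ => SGA1.preimage_le_of_inv ρ q hq.inv σ V) σ τ x
  choose tr0 htr0 using hex
  let tr : Γ(P, W) →+ Γ(Y, V) :=
    { toFun := tr0
      map_zero' := hq.injective V (by rw [htr0, map_zero]; simp)
      map_add' := fun x y => hq.injective V (by
        rw [htr0, map_add, htr0, htr0]; simp [Finset.sum_add_distrib]) }
  have hUY : u ⁻¹ᵁ V' = Φ ⁻¹ᵁ W ⊓ u ⁻¹ᵁ V' := by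
    refine (inf_eq_right.mpr ?_).symm
    intro x hx
    change x ∈ (Φ ≫ q) ⁻¹ᵁ V
    rw [hsq.w]
    exact hle hx
  haveI := isIso_pushoutSection_of_isAffineOpen hsq hle (le_refl W) hUY hV hV' (hV.preimage q)
  have hpo := (isIso_pushoutSection_iff hsq hle (le_refl W) hUY).mp this
  rw [Scheme.Hom.app_eq_appLE]
  refine injective_of_isPushout hpo tr (fun a y => hq.injective V ?_) (Nat.card G)
    (hq.injective V ?_) hn
  · change (q.app V).hom (tr0 _) = (q.app V).hom (a * tr0 y)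
    rw [map_mul, htr0, htr0, Finset.mul_sum]
    refine Finset.sum_congr rfl fun σ _ => ?_
    rw [map_mul]
    congr 1
    rw [← Scheme.Hom.app_eq_appLE]
    exact (hq.range_iff V _).mp ⟨a, rfl⟩ σ
  · change (q.app V).hom (tr0 1) = (q.app V).hom _
    rw [htr0, map_natCast]
    simp

end Groth.Agent.SymCmp
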