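import Groth.Agent.SymCmp.Local
import Groth.Agent.SGA1Quot.Residue
import Groth.Agent.SGA1Quot.Affine
import Mathlib.AlgebraicGeometry.Morphisms.Preimmersion
import Mathlib.AlgebraicGeometry.Morphisms.Flat

/-!
# Comparison morphisms for symmetric products: setup and residue fields
-/

set_option linter.style.haveILetI false

universe u

open CategoryTheory CategoryTheory.Limits AlgebraicGeometry TopologicalSpace SymProd

namespace Groth.Agent.SymCmp

/-- Fibre powers of closed immersions are closed immersions. -/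
theorem isClosedImmersion_fibPowMap {X Z S : Scheme.{u}} {f : X ⟶ S} {fZ : Z ⟶ S} (i : Z ⟶ X)
    [IsClosedImmersion i] (w : i ≫ f = fZ) (d : ℕ) :
    IsClosedImmersion (fibPowMap fZ d f i w) := by
  let pr : Fin d → (fibPow f d ⟶ X) := fun j => WidePullback.π _ j
  let K : (fibPow f d).IdealSheafData := ⨆ j, (pullback.fst (pr j) i).ker
  have h : ∀ j, (pullback.fst (pr j) i).ker ≤ K.subschemeι.ker := fun j => by
    rw [Scheme.IdealSheafData.ker_subschemeι]
    exact le_iSup (fun j => (pullback.fst (pr j) i).ker) j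
  let l : Fin d → (K.subscheme ⟶ Z) := fun j =>
    IsClosedImmersion.lift _ K.subschemeι (h j) ≫ pullback.snd _ _
  have hl : ∀ j, l j ≫ i = K.subschemeι ≫ pr j := fun j => by
    simp only [l, Category.assoc, ← pullback.condition, IsClosedImmersion.lift_fac_assoc]
  let L : K.subscheme ⟶ fibPow fZ d := WidePullback.lift (K.subschemeι ≫ WidePullback.base _) l
    fun j => by
      rw [← w, ← Category.assoc, hl]
      simp [pr]
  have hL : L ≫ fibPowMap fZ d f i w = K.subschemeι := by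
    refine WidePullback.hom_ext _ _ _ (fun j => ?_) ?_
    · rw [Category.assoc, fibPowMap_π, ← Category.assoc, WidePullback.lift_π]; exact hl j
    · rw [Category.assoc, fibPowMap_base, WidePullback.lift_base]
  have hle : K ≤ (fibPowMap fZ d f i w).ker := iSup_le fun j => by
    have e : fibPowMap fZ d f i w = pullback.lift (f := pr j) (g := i) (fibPowMap fZ d f i w)
        (WidePullback.π _ j) (fibPowMap_π fZ d f i w j) ≫ pullback.fst (pr j) i :=
      (pullback.lift_fst _ _ _).symm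
    rw [e]
    exact Scheme.Hom.le_ker_comp _ _
  let M := IsClosedImmersion.lift K.subschemeι (fibPowMap fZ d f i w)
    (by rw [Scheme.IdealSheafData.ker_subschemeι]; exact hle)
  have hM : M ≫ K.subschemeι = fibPowMap fZ d f i w := IsClosedImmersion.lift_fac _ _ _
  have h1 : L ≫ M = 𝟙 _ := by
    rw [← cancel_mono K.subschemeι, Category.assoc, hM, hL, Category.id_comp]
  have h2 : M ≫ L = 𝟙 _ := by
    have e : (M ≫ L) ≫ fibPowMap fZ d f i w = 𝟙 _ ≫ fibPowMap fZ d f i w := by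
      rw [Category.assoc, hL, hM, Category.id_comp]
    refine WidePullback.hom_ext _ _ _ (fun j => ?_) ?_
    · rw [← cancel_mono i]
      have := congrArg (· ≫ pr j) e
      simp only [pr, Category.assoc, fibPowMap_π] at this
      simpa only [Category.assoc] using this
    · have := congrArg (· ≫ WidePullback.base _) e
      simpa only [Category.assoc, fibPowMap_base] using this
  haveI : IsIso M := ⟨L, h2, h1⟩
  rw [← hM]
  infer_instance

/-- Affine opens of a fibre product. -/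
theorem isAffineOpen_pullback {X Y S T : Scheme.{u}} {f : T ⟶ S} {g : Y ⟶ X} {iX : X ⟶ S}
    {iY : Y ⟶ T} (H : IsPullback g iY iX f) {US : S.Opens} {UT : T.Opens} {UX : X.Opens}
    (hUS : IsAffineOpen US) (hUT : IsAffineOpen UT) (hUX : IsAffineOpen UX)
    (hUST : UT ≤ f ⁻¹ᵁ US) (hUSX : UX ≤ iX ⁻¹ᵁ US) :
    IsAffineOpen (g ⁻¹ᵁ UX ⊓ iY ⁻¹ᵁ UT) := by
  haveI : IsAffine _ := hUS
  haveI : IsAffine _ := hUT
  haveI : IsAffine _ := hUX
  exact .of_isIso (Scheme.Hom.isPullback_resLE H hUST hUSX rfl).isoPullback.hom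

/-- The sections over an affine open of a fibre product are generated by products. -/
theorem mem_closure_products {X Y S T : Scheme.{u}} {f : T ⟶ S} {g : Y ⟶ X} {iX : X ⟶ S}
    {iY : Y ⟶ T} (H : IsPullback g iY iX f) {US : S.Opens} {UT : T.Opens} {UX : X.Opens}
    (hUS : IsAffineOpen US) (hUT : IsAffineOpen UT) (hUX : IsAffineOpen UX)
    (hUST : UT ≤ f ⁻¹ᵁ US) (hUSX : UX ≤ iX ⁻¹ᵁ US) {W : Y.Opens} (hW : W = g ⁻¹ᵁ UX ⊓ iY ⁻¹ᵁ UT)
    (r : Γ(Y, W)) :
    r ∈ AddSubmonoid.closure {t | ∃ (s : Γ(T, UT)) (x : Γ(X, UX)),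
      (iY.appLE UT W (hW.le.trans inf_le_right)).hom s *
        (g.appLE UX W (hW.le.trans inf_le_left)).hom x = t} := by
  let gX := (g.appLE UX W (hW.le.trans inf_le_left)).hom
  let gT := (iY.appLE UT W (hW.le.trans inf_le_right)).hom
  haveI := isIso_pushoutSection_of_isAffineOpen H hUST hUSX hW hUS hUT hUX
  have hpo := (isIso_pushoutSection_iff H hUST hUSX hW).mp this
  let R : Subring Γ(Y, W) := Subring.closure (Set.range gX ∪ Set.range gT)
  let cX : Γ(X, UX) ⟶ CommRingCat.of R := CommRingCat.ofHom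
    (gX.codRestrict R fun x => Subring.subset_closure (.inl ⟨x, rfl⟩))
  let cT : Γ(T, UT) ⟶ CommRingCat.of R := CommRingCat.ofHom
    (gT.codRestrict R fun x => Subring.subset_closure (.inr ⟨x, rfl⟩))
  let incl : CommRingCat.of R ⟶ Γ(Y, W) := CommRingCat.ofHom R.subtype
  have hcX : cX ≫ incl = g.appLE UX W (hW.le.trans inf_le_left) := rfl
  have hcT : cT ≫ incl = iY.appLE UT W (hW.le.trans inf_le_right) := rfl
  let L : Γ(Y, W) ⟶ CommRingCat.of R := hpo.desc cX cT (by
    haveI : Mono incl := ConcreteCategory.mono_of_injective _ Subtype.val_injective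
    rw [← cancel_mono incl, Category.assoc, Category.assoc, hcX, hcT]
    exact hpo.w)
  have hL : L ≫ incl = 𝟙 _ := hpo.hom_ext
    (by rw [← Category.assoc, hpo.inl_desc, hcX, Category.comp_id])
    (by rw [← Category.assoc, hpo.inr_desc, hcT, Category.comp_id])
  have hr : r ∈ R := by
    rw [← show (L ≫ incl).hom r = r by rw [hL]; rfl]
    exact (L.hom r).2
  have hone : (1 : Γ(Y, W)) = gT 1 * gX 1 := by rw [map_one, map_one, one_mul]
  induction hr using Subring.closure_induction with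
  | mem x hx =>
    rcases hx with ⟨a, rfl⟩ | ⟨b, rfl⟩
    · exact AddSubmonoid.subset_closure ⟨1, a, by rw [map_one, one_mul]⟩
    · exact AddSubmonoid.subset_closure ⟨b, 1, by rw [map_one, mul_one]⟩
  | zero => exact zero_mem _
  | one => exact AddSubmonoid.subset_closure ⟨1, 1, hone.symm⟩
  | add x y _ _ hx hy => exact add_mem hx hy
  | neg x hx0 hx =>
    clear hx0
    induction hx using AddSubmonoid.closure_induction with
    | mem t ht =>
      obtain ⟨s, a, rfl⟩ := ht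
      exact AddSubmonoid.subset_closure ⟨-s, a, by rw [map_neg, neg_mul]⟩
    | zero => rw [neg_zero]; exact zero_mem _
    | add s t _ _ hs ht => rw [neg_add]; exact add_mem hs ht
  | mul x y hx0 hy0 hx hy =>
    clear hx0 hy0
    induction hx using AddSubmonoid.closure_induction with
    | zero => rw [zero_mul]; exact zero_mem _
    | add s t _ _ hs ht => rw [add_mul]; exact add_mem hs ht
    | mem t ht =>
      obtain ⟨s, a, rfl⟩ := ht
      induction hy using AddSubmonoid.closure_induction with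
      | zero => rw [mul_zero]; exact zero_mem _
      | add s t _ _ hs ht => rw [mul_add]; exact add_mem hs ht
      | mem t' ht' =>
        obtain ⟨s', a', rfl⟩ := ht'
        exact AddSubmonoid.subset_closure ⟨s * s', a * a', by rw [map_mul, map_mul]; ring⟩

/-- The data of a base change of a closed subscheme give a `Setup`. -/
theorem exists_setup {X Z S S' P' T Y : Scheme.{u}} {d : ℕ} {f : X ⟶ S} {gS : S' ⟶ S}
    {q : fibPow f d ⟶ Y} {g : Y ⟶ S} (hq : IsSymProd f d q g) {fZ : Z ⟶ S} (i : Z ⟶ X)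
    [IsClosedImmersion i] (w : i ≫ f = fZ) [Flat (pullback.snd fZ gS)]
    {π₁ : P' ⟶ fibPow fZ d} {π₂ : P' ⟶ S'}
    (hP : IsPullback π₁ π₂ (WidePullback.base fun _ : Fin d => fZ) gS)
    (ρ' : ULift.{u} (Equiv.Perm (Fin d)) →* Aut P')
    (hρ₁ : ∀ σ, (ρ' σ).hom ≫ π₁ = π₁ ≫ permHom fZ d σ.down)
    (hρ₂ : ∀ σ, (ρ' σ).hom ≫ π₂ = π₂) {u : P' ⟶ T} {pT : T ⟶ Y} {pS : T ⟶ S'}
    (hinv : ∀ σ, (ρ' σ).hom ≫ u = u) (huT : u ≫ pT = (π₁ ≫ fibPowMap fZ d f i w) ≫ q)
    (huS : u ≫ pS = π₂) :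
    ∃ pr', Setup f gS q g (π₁ ≫ fibPowMap fZ d f i w) π₂ u pT pS ρ'
      (pullback.fst fZ gS ≫ i) (pullback.snd fZ gS) pr' := by
  let pr' : Fin d → (P' ⟶ pullback fZ gS) := fun j =>
    pullback.lift (π₁ ≫ WidePullback.π (fun _ : Fin d => fZ) j) π₂ (by
      rw [Category.assoc, WidePullback.π_arrow, hP.w])
  refine ⟨pr',
    { isSym := hq
      actΦ := fun σ => ?_
      actS := hρ₂
      actZ := fun σ j => ?_
      u_inv := hinv
      uT := huT
      uS := huS
      fib := (isFibPow_fibPow fZ d).pullback (IsPullback.of_hasPullback fZ gS) hP pr'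
        (fun j => pullback.lift_fst _ _ _) (fun j => pullback.lift_snd _ _ _)
      coord := fun j => ?_
      hover := ?_
      flat := inferInstance
      chart := fun S0 S0' hS0 hS0' hle U hU hUS => ?_ }⟩
  · rw [← Category.assoc, hρ₁, Category.assoc, Category.assoc]
    congr 1
    refine WidePullback.hom_ext _ _ _ (fun j => ?_) ?_
    · simp
    · simp
  · refine pullback.hom_ext ?_ ?_
    · simp only [pr', Category.assoc, pullback.lift_fst]
      rw [← Category.assoc, hρ₁, Category.assoc, permHom_π]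
    · simp only [pr', Category.assoc, pullback.lift_snd, hρ₂]
  · simp only [pr', Category.assoc, fibPowMap_π, pullback.lift_fst_assoc]
  · rw [Category.assoc, fibPowMap_base, hP.w]
  · have hUi : IsAffineOpen (i ⁻¹ᵁ U) := hU.preimage i
    have hUiS : i ⁻¹ᵁ U ≤ fZ ⁻¹ᵁ S0 := by
      rw [← w]
      exact fun x hx => hUS hx
    refine ⟨isAffineOpen_pullback (IsPullback.of_hasPullback fZ gS) hS0 hS0' hUi hle hUiS, fun r => ?_⟩
    have := mem_closure_products (IsPullback.of_hasPullback fZ gS) hS0 hS0' hUi hle hUiS rfl r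
    refine AddSubmonoid.closure_mono ?_ this
    rintro t ⟨s, x, rfl⟩
    obtain ⟨x', rfl⟩ := i.app_surjective U hU x
    refine ⟨s, x', ?_⟩
    congr 1

/-- The endomorphism of a base change induced by an element of a group acting over the base. -/
noncomputable def baseHom {P' S' S'' : Scheme.{u}} {G : Type*} [Group G] (ρ' : G →* Aut P')
    (π₂ : P' ⟶ S') (h : ∀ g, (ρ' g).hom ≫ π₂ = π₂) (j : S'' ⟶ S') (g : G) :
    pullback π₂ j ⟶ pullback π₂ j :=
  pullback.lift (pullback.fst π₂ j ≫ (ρ' g).hom) (pullback.snd π₂ j)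
    (by rw [Category.assoc, h, pullback.condition])

theorem baseHom_mul {P' S' S'' : Scheme.{u}} {G : Type*} [Group G] (ρ' : G →* Aut P')
    (π₂ : P' ⟶ S') (h : ∀ g, (ρ' g).hom ≫ π₂ = π₂) (j : S'' ⟶ S') (g k : G) :
    baseHom ρ' π₂ h j (g * k) = baseHom ρ' π₂ h j k ≫ baseHom ρ' π₂ h j g := by
  have e : (ρ' (g * k)).hom = (ρ' k).hom ≫ (ρ' g).hom := by rw [map_mul]; rfl
  refine pullback.hom_ext ?_ ?_ <;>
    simp only [baseHom, Category.assoc, pullback.lift_fst, pullback.lift_snd,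
      pullback.lift_fst_assoc, e]

theorem baseHom_one {P' S' S'' : Scheme.{u}} {G : Type*} [Group G] (ρ' : G →* Aut P')
    (π₂ : P' ⟶ S') (h : ∀ g, (ρ' g).hom ≫ π₂ = π₂) (j : S'' ⟶ S') :
    baseHom ρ' π₂ h j 1 = 𝟙 _ := by
  have e : (ρ' 1).hom = 𝟙 _ := by rw [map_one]; rfl
  refine pullback.hom_ext ?_ ?_ <;>
    simp only [baseHom, pullback.lift_fst, pullback.lift_snd, e, Category.comp_id, Category.id_comp]

/-- An action on `P'` over `S'` induces one on a base change. -/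
noncomputable def baseAct {P' S' S'' : Scheme.{u}} {G : Type*} [Group G] (ρ' : G →* Aut P')
    (π₂ : P' ⟶ S') (h : ∀ g, (ρ' g).hom ≫ π₂ = π₂) (j : S'' ⟶ S') :
    G →* Aut (pullback π₂ j) where
  toFun g :=
    { hom := baseHom ρ' π₂ h j g
      inv := baseHom ρ' π₂ h j g⁻¹
      hom_inv_id := by rw [← baseHom_mul, inv_mul_cancel, baseHom_one]
      inv_hom_id := by rw [← baseHom_mul, mul_inv_cancel, baseHom_one] }
  map_one' := Iso.ext (baseHom_one ρ' π₂ h j)
  map_mul' g k := Iso.ext (baseHom_mul ρ' π₂ h j g k)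

theorem baseAct_fst {P' S' S'' : Scheme.{u}} {G : Type*} [Group G] (ρ' : G →* Aut P')
    (π₂ : P' ⟶ S') (h : ∀ g, (ρ' g).hom ≫ π₂ = π₂) (j : S'' ⟶ S') (g : G) :
    (baseAct ρ' π₂ h j g).hom ≫ pullback.fst π₂ j = pullback.fst π₂ j ≫ (ρ' g).hom :=
  pullback.lift_fst _ _ _

theorem baseAct_snd {P' S' S'' : Scheme.{u}} {G : Type*} [Group G] (ρ' : G →* Aut P')
    (π₂ : P' ⟶ S') (h : ∀ g, (ρ' g).hom ≫ π₂ = π₂) (j : S'' ⟶ S') (g : G) :
    (baseAct ρ' π₂ h j g).hom ≫ pullback.snd π₂ j = pullback.snd π₂ j :=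
  pullback.lift_snd _ _ _

theorem residueFieldMap_surjective_of_isPreimmersion {A B : Scheme.{u}} (k : A ⟶ B) [IsPreimmersion k]
    (x : A) : Function.Surjective (k.residueFieldMap x).hom := by
  intro a
  obtain ⟨b, rfl⟩ := A.residue_surjective x a
  obtain ⟨c, rfl⟩ := k.stalkMap_surjective x b
  exact ⟨(B.residue (k x)).hom c, by
    rw [← CommRingCat.comp_apply, Scheme.residue_residueFieldMap]; rfl⟩

theorem range_residueFieldMap_congr {A B : Scheme.{u}} {k k' : A ⟶ B} (e : k = k') (x : A) :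
    Set.range (k.residueFieldMap x).hom = Set.range (k'.residueFieldMap x).hom := by
  subst e; rfl

set_option maxHeartbeats 800000 in
/-- The comparison morphism of symmetric products has trivial residue field extensions. -/
theorem isIso_residueFieldMap {X Z S S' P' T Y Y' : Scheme.{u}} {d : ℕ} {f : X ⟶ S} {gS : S' ⟶ S}
    {q : fibPow f d ⟶ Y} {g : Y ⟶ S} (hq : IsSymProd f d q g) {fZ : Z ⟶ S} (i : Z ⟶ X)
    [IsClosedImmersion i] (w : i ≫ f = fZ)
    {π₁ : P' ⟶ fibPow fZ d} {π₂ : P' ⟶ S'}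
    (hP : IsPullback π₁ π₂ (WidePullback.base fun _ : Fin d => fZ) gS)
    (ρ' : ULift.{u} (Equiv.Perm (Fin d)) →* Aut P')
    (hρ₁ : ∀ σ, (ρ' σ).hom ≫ π₁ = π₁ ≫ permHom fZ d σ.down)
    (hρ₂ : ∀ σ, (ρ' σ).hom ≫ π₂ = π₂) {r : P' ⟶ Y'} (hr : SGA1.IsQuot ρ' r) {m : Y' ⟶ T}
    {pT : T ⟶ Y} {pS : T ⟶ S'} (hmT : r ≫ m ≫ pT = (π₁ ≫ fibPowMap fZ d f i w) ≫ q)
    (hmS : r ≫ m ≫ pS = π₂) (y : Y') : IsIso (m.residueFieldMap y) := by
  rw [ConcreteCategory.isIso_iff_bijective]
  refine ⟨(m.residueFieldMap y).hom.injective, ?_⟩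
  obtain ⟨z, rfl⟩ := SGA1Quot.surjective hr y
  let s' : S' := π₂ z
  let j : Spec (S'.residueField s') ⟶ S' := S'.fromSpecResidueField s'
  obtain ⟨z'', hz''⟩ : z ∈ Set.range (pullback.fst π₂ j) := by
    rw [Scheme.Pullback.range_fst, Set.mem_preimage, Scheme.range_fromSpecResidueField]
    rfl
  rw [← hz'']
  let fst := pullback.fst π₂ j
  let jT : pullback pS j ⟶ T := pullback.fst pS j
  let u'' : pullback π₂ j ⟶ pullback pS j := pullback.lift (fst ≫ r ≫ m) (pullback.snd π₂ j) (by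
    rw [Category.assoc, Category.assoc, hmS]; exact pullback.condition)
  let ρ'' := baseAct ρ' π₂ hρ₂ j
  have hfr : ∀ σ, (ρ'' σ).hom ≫ fst ≫ r = fst ≫ r := fun σ => by
    rw [← Category.assoc, baseAct_fst, Category.assoc, hr.inv]
  haveI : Flat (pullback.snd fZ (j ≫ gS)) := inferInstance
  obtain ⟨pr'', D⟩ := exists_setup (u := u'') (pT := jT ≫ pT) (pS := pullback.snd pS j) hq i w
    ((IsPullback.of_hasPullback π₂ j).paste_horiz hP) ρ''
    (fun σ => by rw [← Category.assoc, baseAct_fst, Category.assoc, hρ₁, Category.assoc])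
    (baseAct_snd ρ' π₂ hρ₂ j)
    (fun σ => by
      refine pullback.hom_ext ?_ ?_
      · rw [Category.assoc, pullback.lift_fst, ← Category.assoc fst, ← Category.assoc, hfr]
      · rw [Category.assoc, pullback.lift_snd, baseAct_snd])
    (by
      rw [← Category.assoc, pullback.lift_fst]
      simp only [fst, Category.assoc, hmT])
    (pullback.lift_snd _ _ _)
  obtain ⟨S0, hS0, hsS0, -⟩ := exists_isAffineOpen_mem_and_subset (x := gS s') (U := ⊤) trivial
  obtain ⟨S0', hS0', hs', hle⟩ := exists_isAffineOpen_mem_and_subset (x := s') (U := gS ⁻¹ᵁ S0) hsS0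
  let y0 : Y := (m ≫ pT) (r (fst z''))
  have hgy : g y0 = gS s' := by
    rw [show s' = π₂ (fst z'') from congrArg π₂ hz''.symm]
    change g ((m ≫ pT) (r (fst z''))) = gS (π₂ (fst z''))
    have e : (r ≫ m ≫ pT) ≫ g = π₂ ≫ gS := by
      rw [hmT, Category.assoc, hq.over, Category.assoc, fibPowMap_base, hP.w]
    exact congrArg (fun k : P' ⟶ S => k (fst z'')) e
  obtain ⟨V, hV, hyV, hVS⟩ := exists_isAffineOpen_mem_and_subset (x := y0) (U := g ⁻¹ᵁ S0)
    (show g y0 ∈ S0 from hgy ▸ hsS0)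
  let V0 : T.Opens := pT ⁻¹ᵁ V ⊓ pS ⁻¹ᵁ S0'
  let O : Y'.Opens := m ⁻¹ᵁ V0
  haveI := hq.isQuot.affine
  haveI := isClosedImmersion_fibPowMap i w d
  have hr0 : r ⁻¹ᵁ O = π₁ ⁻¹ᵁ (fibPowMap fZ d f i w ⁻¹ᵁ (q ⁻¹ᵁ V)) ⊓ π₂ ⁻¹ᵁ S0' := by
    simp only [O, V0, Scheme.Hom.preimage_inf, ← Scheme.Hom.comp_preimage, Category.assoc, hmT, hmS]
  have hO : IsAffineOpen O := SGA1Quot.isAffineOpen_of_preimage hr O (by
    rw [hr0]
    refine isAffineOpen_pullback hP hS0 hS0' ((hV.preimage q).preimage _) hle ?_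
    rw [← fibPowMap_base fZ d f i w, ← hq.over, ← Category.assoc, Scheme.Hom.comp_preimage,
      Scheme.Hom.comp_preimage]
    exact fun x hx => hVS hx)
  have hyO : r (fst z'') ∈ O := by
    refine ⟨hyV, ?_⟩
    change pS (m (r (fst z''))) ∈ S0'
    rw [← Scheme.Hom.comp_apply, ← Scheme.Hom.comp_apply, hmS,
      show fst z'' = z from hz'']
    exact hs'
  let V'' : (pullback pS j).Opens := jT ⁻¹ᵁ V0
  have hV'' : V'' = (jT ≫ pT) ⁻¹ᵁ V ⊓ pullback.snd pS j ⁻¹ᵁ ⊤ := by
    refine Opens.ext (Set.ext fun x => ⟨fun hx => ⟨hx.1, trivial⟩, fun hx => ⟨hx.1, ?_⟩⟩)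
    change pS (jT x) ∈ S0'
    rw [← Scheme.Hom.comp_apply, pullback.condition, Scheme.Hom.comp_apply]
    have hj : j (pullback.snd pS j x) ∈ Set.range j := ⟨_, rfl⟩
    rw [Scheme.range_fromSpecResidueField, Set.mem_singleton_iff] at hj
    rw [hj]; exact hs'
  have hjS : (⊤ : (Spec (S'.residueField s')).Opens) ≤ (j ≫ gS) ⁻¹ᵁ S0 := fun x _ => by
    have hj : j x ∈ Set.range j := ⟨x, rfl⟩
    rw [Scheme.range_fromSpecResidueField, Set.mem_singleton_iff] at hj
    change gS (j x) ∈ S0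
    rw [hj]; exact hsS0
  obtain ⟨-, hrange⟩ := D.mem_range hV hS0 hVS (isAffineOpen_top _) hjS hV''
  have eW : u'' ⁻¹ᵁ V'' = (fst ≫ r) ⁻¹ᵁ O := by
    simp only [V'', O, ← Scheme.Hom.comp_preimage, u'', jT, pullback.lift_fst, Category.assoc]
  have hz : z'' ∈ u'' ⁻¹ᵁ V'' := by rw [eW]; exact hyO
  have hu : ∀ τ, ∃ τ', (u''.residueFieldMap z'').hom τ =
      ((fst ≫ r).residueFieldMap z'').hom ((m.residueFieldMap (r (fst z''))).hom τ') := by
    intro τ
    obtain ⟨τ0, rfl⟩ := residueFieldMap_surjective_of_isPreimmersion jT (u'' z'') τ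
    have h1 : (u''.residueFieldMap z'').hom ((jT.residueFieldMap (u'' z'')).hom τ0) ∈
        Set.range ((u'' ≫ jT).residueFieldMap z'').hom := ⟨τ0, by rw [Scheme.residueFieldMap_comp]; rfl⟩
    rw [range_residueFieldMap_congr (show u'' ≫ jT = (fst ≫ r) ≫ m by
      rw [pullback.lift_fst, Category.assoc])] at h1
    obtain ⟨τ', hτ'⟩ := h1
    refine ⟨τ', hτ'.symm.trans ?_⟩
    rw [Scheme.residueFieldMap_comp]
    rfl
  have key : ∀ a : Γ(Y', O), (Y'.evaluation O (r (fst z'')) hyO).hom a ∈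
      (m.residueFieldMap (r (fst z''))).hom.fieldRange := by
    intro a
    let c : Γ(pullback π₂ j, u'' ⁻¹ᵁ V'') := ((fst ≫ r).appLE O _ eW.le).hom a
    obtain ⟨t, ht⟩ := hrange c fun σ => by
      change ((ρ'' σ).hom.appLE _ _ _).hom (((fst ≫ r).appLE O _ eW.le).hom a) = _
      rw [← CommRingCat.comp_apply, Scheme.Hom.appLE_comp_appLE]
      simp only [hfr]
      rfl
    have e1 := SGA1Quot.evaluation_appLE (fst ≫ r) O (u'' ⁻¹ᵁ V'') eW.le z'' hz a
    have e2 := SGA1Quot.evaluation_appLE u'' V'' (u'' ⁻¹ᵁ V'') le_rfl z'' hz t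
    rw [← Scheme.Hom.app_eq_appLE, ht] at e2
    obtain ⟨τ', hτ'⟩ := hu _
    exact ⟨τ', ((fst ≫ r).residueFieldMap z'').hom.injective (hτ'.symm.trans (e2.symm.trans e1))⟩
  intro κ
  obtain ⟨a, b, -, rfl⟩ := SGA1Quot.exists_evaluation_div hO _ hyO κ
  exact div_mem (key a) (key b)

end Groth.Agent.SymCmp
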