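import Mathlib.RingTheory.Flat.Basic
import Mathlib.LinearAlgebra.TensorProduct.Pi
import Mathlib.Algebra.Category.Ring.Constructions

/-!
# Fixed elements in tensor products
-/

set_option linter.style.haveILetI false

universe u

open scoped TensorProduct
open CategoryTheory Limits

namespace Groth.Agent.SymCmp

variable {A M C N D : Type u} [CommRing A] [AddCommGroup M] [Module A M] [AddCommGroup C] [Module A C]
  [AddCommGroup N] [Module A N] [AddCommGroup D] [Module A D] {ι κ : Type*}

/-- Tensoring with a flat module commutes with taking fixed elements. -/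
theorem exists_lTensor_of_fixed [Finite ι] [Module.Flat A N] (a : ι → M →ₗ[A] M) (i : C →ₗ[A] M)
    (hfix : ∀ g c, a g (i c) = i c) (hr : ∀ x, (∀ g, a g x = x) → x ∈ Set.range i) (y : N ⊗[A] M)
    (hy : ∀ g, (a g).lTensor N y = y) : y ∈ Set.range (i.lTensor N) := by
  classical
  cases nonempty_fintype ι
  let D : M →ₗ[A] (ι → M) := LinearMap.pi fun g => a g - LinearMap.id
  have hex : Function.Exact i D := fun x => by
    refine ⟨fun hx => hr x fun g => ?_, ?_⟩
    · have := congrFun hx g
      simpa [D, sub_eq_zero] using this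
    · rintro ⟨c, rfl⟩
      funext g
      simp [D, hfix]
  refine (Module.Flat.lTensor_exact N hex y).mp ?_
  apply (TensorProduct.piRight A A N fun _ : ι => M).injective
  rw [map_zero]
  funext g
  have key : (LinearMap.proj g).comp
      ((TensorProduct.piRight A A N fun _ : ι => M).toLinearMap.comp (D.lTensor N)) =
      (a g).lTensor N - LinearMap.id := by
    refine TensorProduct.ext' fun x m => ?_
    simp [D, TensorProduct.tmul_sub]
  have := LinearMap.congr_fun key y
  simp only [LinearMap.comp_apply, LinearEquiv.coe_coe, LinearMap.proj_apply, LinearMap.sub_apply,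
    LinearMap.id_apply, hy, sub_self] at this
  exact this

/-- The same on the other side. -/
theorem exists_rTensor_of_fixed [Finite ι] [Module.Flat A N] (a : ι → M →ₗ[A] M) (i : C →ₗ[A] M)
    (hfix : ∀ g c, a g (i c) = i c) (hr : ∀ x, (∀ g, a g x = x) → x ∈ Set.range i) (y : M ⊗[A] N)
    (hy : ∀ g, (a g).rTensor N y = y) : y ∈ Set.range (i.rTensor N) := by
  obtain ⟨z, hz⟩ := exists_lTensor_of_fixed a i hfix hr (TensorProduct.comm A M N y) fun g => by
    conv_rhs => rw [← hy g]
    have : ((a g).lTensor N).comp (TensorProduct.comm A M N).toLinearMap =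
        (TensorProduct.comm A M N).toLinearMap.comp ((a g).rTensor N) :=
      TensorProduct.ext' fun _ _ => by simp
    exact LinearMap.congr_fun this y
  refine ⟨(TensorProduct.comm A C N).symm z, (TensorProduct.comm A M N).injective ?_⟩
  rw [← hz]
  have : (TensorProduct.comm A M N).toLinearMap.comp ((i.rTensor N).comp
      (TensorProduct.comm A C N).symm.toLinearMap) = i.lTensor N :=
    TensorProduct.ext' fun _ _ => by simp
  exact LinearMap.congr_fun this z

/-- Fixed elements of a product action on a tensor product, flat case. -/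
theorem bijOn_fixed_of_flat [Finite ι] [Finite κ] [Nonempty ι] [Nonempty κ] [Module.Flat A M]
    [Module.Flat A D]
    (a : ι → M →ₗ[A] M) (e₁ : ι) (he₁ : a e₁ = LinearMap.id) (i : C →ₗ[A] M) (hi : Function.Injective i)
    (hfix : ∀ g c, a g (i c) = i c) (hr : ∀ x, (∀ g, a g x = x) → x ∈ Set.range i)
    (b : κ → N →ₗ[A] N) (e₂ : κ) (he₂ : b e₂ = LinearMap.id) (j : D →ₗ[A] N) (hj : Function.Injective j)
    (hfix' : ∀ g c, b g (j c) = j c) (hr' : ∀ x, (∀ g, b g x = x) → x ∈ Set.range j) :
    Function.Injective (TensorProduct.map i j) ∧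
      ∀ y, (∀ g k, TensorProduct.map (a g) (b k) y = y) → y ∈ Set.range (TensorProduct.map i j) := by
  have hjl : Function.Injective (j.lTensor M) := Module.Flat.lTensor_preserves_injective_linearMap j hj
  have hir : Function.Injective (i.rTensor D) := Module.Flat.rTensor_preserves_injective_linearMap i hi
  have hmap : TensorProduct.map i j = (j.lTensor M).comp (i.rTensor D) :=
    TensorProduct.ext' fun _ _ => by simp
  refine ⟨by rw [hmap]; exact hjl.comp hir, fun y hy => ?_⟩
  obtain ⟨z, rfl⟩ := exists_lTensor_of_fixed b j hfix' hr' y fun k => by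
    have := hy e₁ k
    rwa [he₁] at this
  obtain ⟨w, rfl⟩ := exists_rTensor_of_fixed (N := D) a i hfix hr z fun g => hjl (by
    have := hy g e₂
    rw [he₂] at this
    have hcomm : (j.lTensor M).comp ((a g).rTensor D) =
        (TensorProduct.map (a g) LinearMap.id).comp (j.lTensor M) :=
      TensorProduct.ext' fun _ _ => by simp
    exact (LinearMap.congr_fun hcomm z).trans this)
  exact ⟨w, by rw [hmap]; rfl⟩

/-- Fixed elements of a product action on a tensor product, averaging case. -/
theorem bijOn_fixed_of_isUnit [Fintype ι] [Fintype κ]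
    (a : ι → M →ₗ[A] M) (i : C →ₗ[A] M) (hi : Function.Injective i)
    (hfix : ∀ g c, a g (i c) = i c) (hsum : ∀ x, ∑ g, a g x ∈ Set.range i)
    (b : κ → N →ₗ[A] N) (j : D →ₗ[A] N) (hj : Function.Injective j)
    (hfix' : ∀ g c, b g (j c) = j c) (hsum' : ∀ x, ∑ g, b g x ∈ Set.range j)
    (hn : IsUnit ((Fintype.card ι * Fintype.card κ : ℕ) : A)) :
    Function.Injective (TensorProduct.map i j) ∧
      ∀ y, (∀ g k, TensorProduct.map (a g) (b k) y = y) → y ∈ Set.range (TensorProduct.map i j) := by
  classical
  obtain ⟨t, ht⟩ : ∃ t : M →ₗ[A] C, i.comp t = ∑ g, a g := by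
    choose t ht using hsum
    refine ⟨{ toFun := t, map_add' := fun x y => hi ?_, map_smul' := fun r x => hi ?_ }, ?_⟩
    · simp [ht, Finset.sum_add_distrib]
    · simp [ht, Finset.smul_sum]
    · ext x; simp [ht]
  obtain ⟨s, hs⟩ : ∃ s : N →ₗ[A] D, j.comp s = ∑ g, b g := by
    choose t ht using hsum'
    refine ⟨{ toFun := t, map_add' := fun x y => hj ?_, map_smul' := fun r x => hj ?_ }, ?_⟩
    · simp [ht, Finset.sum_add_distrib]
    · simp [ht, Finset.smul_sum]
    · ext x; simp [ht]
  obtain ⟨n', hn'⟩ := hn.exists_left_inv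
  have h1 : (TensorProduct.map t s).comp (TensorProduct.map i j) =
      ((Fintype.card ι * Fintype.card κ : ℕ) : A) • LinearMap.id := by
    rw [← TensorProduct.map_comp]
    refine TensorProduct.ext' fun c d => ?_
    have e1 : t (i c) = (Fintype.card ι : A) • c := hi (by
      rw [← LinearMap.comp_apply i t, ht, map_smul]
      simp [hfix, Nat.cast_smul_eq_nsmul])
    have e2 : s (j d) = (Fintype.card κ : A) • d := hj (by
      rw [← LinearMap.comp_apply j s, hs, map_smul]
      simp [hfix', Nat.cast_smul_eq_nsmul])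
    simp [e1, e2, TensorProduct.smul_tmul', TensorProduct.tmul_smul, smul_smul, mul_comm]
  refine ⟨fun x y hxy => ?_, fun y hy => ⟨n' • TensorProduct.map t s y, ?_⟩⟩
  · have h := congrArg (TensorProduct.map t s) hxy
    rw [← LinearMap.comp_apply, ← LinearMap.comp_apply, h1] at h
    have h' := congrArg (n' • ·) h
    simpa only [LinearMap.smul_apply, LinearMap.id_apply, smul_smul, hn', one_smul] using h'
  · have h2 : (TensorProduct.map i j).comp (TensorProduct.map t s) =
        ∑ g, ∑ k, TensorProduct.map (a g) (b k) := by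
      rw [← TensorProduct.map_comp, ht, hs]
      refine TensorProduct.ext' fun c d => ?_
      simp [TensorProduct.sum_tmul, TensorProduct.tmul_sum]
      exact Finset.sum_comm
    rw [map_smul, ← LinearMap.comp_apply, h2]
    simp only [LinearMap.coe_sum, Finset.sum_apply, hy, Finset.sum_const, Finset.card_univ,
      ← Nat.cast_smul_eq_nsmul A, smul_smul]
    rw [← Nat.cast_mul, hn', one_smul]

/-- A pushout of rings is a tensor product. -/
theorem exists_bijective_of_isPushout {A B C : Type u} [CommRing A] [CommRing B] [CommRing C]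
    [Algebra A B] [Algebra A C] {D : CommRingCat.{u}} {c : CommRingCat.of B ⟶ D}
    {e : CommRingCat.of C ⟶ D}
    (h : IsPushout (CommRingCat.ofHom (algebraMap A B)) (CommRingCat.ofHom (algebraMap A C)) c e) :
    ∃ L : B ⊗[A] C →+* D, Function.Bijective L ∧ ∀ x y, L (x ⊗ₜ y) = c.hom x * e.hom y := by
  have hpo := CommRingCat.isPushout_tensorProduct A B C
  refine ⟨(hpo.desc c e h.w).hom, ?_, fun x y => ?_⟩
  · have h1 : hpo.desc c e h.w ≫ h.desc _ _ hpo.w = 𝟙 _ := hpo.hom_ext (by simp) (by simp)
    have h2 : h.desc _ _ hpo.w ≫ hpo.desc c e h.w = 𝟙 _ := h.hom_ext (by simp) (by simp)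
    exact Function.bijective_iff_has_inverse.mpr ⟨(h.desc _ _ hpo.w).hom,
      fun x => ConcreteCategory.congr_hom h1 x, fun x => ConcreteCategory.congr_hom h2 x⟩
  · have e1 : x ⊗ₜ[A] y = (x ⊗ₜ[A] (1 : C)) * ((1 : B) ⊗ₜ[A] y) := by
      rw [Algebra.TensorProduct.tmul_mul_tmul, mul_one, one_mul]
    rw [e1, map_mul]
    congr 1
    · exact ConcreteCategory.congr_hom (hpo.inl_desc c e h.w) x
    · exact ConcreteCategory.congr_hom (hpo.inr_desc c e h.w) y

end Groth.Agent.SymCmp
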