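import Groth.Agent.SymCmp.FlatQuot
import Groth.Agent.SymCmp.Tensor
import Groth.Agent.SymCmp.Compare

/-!
# Products of symmetric products
-/

set_option linter.style.haveILetI false

universe u

open CategoryTheory CategoryTheory.Limits AlgebraicGeometry TopologicalSpace SymProd
open scoped TensorProduct

namespace Groth.Agent.SymCmp

/-- The linear map given by an `appLE` commuting with the maps to the base. -/
noncomputable def appLELinear {A : CommRingCat.{u}} {P Q : Scheme.{u}} (h : Q ⟶ P) {V : P.Opens}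
    {W : Q.Opens} (e : W ≤ h ⁻¹ᵁ V) (α : A ⟶ Γ(P, V)) (β : A ⟶ Γ(Q, W))
    (w : α ≫ h.appLE V W e = β) :
    letI := α.hom.toAlgebra
    letI := β.hom.toAlgebra
    Γ(P, V) →ₗ[A] Γ(Q, W) :=
  letI := α.hom.toAlgebra
  letI := β.hom.toAlgebra
  { toFun := (h.appLE V W e).hom
    map_add' := map_add _
    map_smul' := fun a x => by
      rw [Algebra.smul_def, Algebra.smul_def, map_mul, RingHom.algebraMap_toAlgebra,
        RingHom.algebraMap_toAlgebra, ← w]
      rfl }

variable {X Z S P Q : Scheme.{u}} {f : X ⟶ S} {g : Z ⟶ S} {d e : ℕ} {qX : fibPow f d ⟶ P} {pP : P ⟶ S}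
  {qZ : fibPow g e ⟶ Q} {pQ : Q ⟶ S}

set_option maxHeartbeats 2000000 in
/-- The quotient condition for a product of symmetric products over affine charts. -/
theorem good_prod (hX : IsSymProd f d qX pP) (hZ : IsSymProd g e qZ pQ)
    (h : (Flat f ∧ Flat g) ∨ ∀ n : ℕ, 0 < n → IsUnit ((n : ℕ) : Γ(S, ⊤)))
    (ρ : ULift.{u} (Equiv.Perm (Fin d) × Equiv.Perm (Fin e)) →*
      Aut (pullback (WidePullback.base fun _ : Fin d => f) (WidePullback.base fun _ : Fin e => g)))
    (hρ₁ : ∀ σ, (ρ σ).hom ≫ pullback.fst (WidePullback.base fun _ : Fin d => f) (WidePullback.base fun _ : Fin e => g) =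
        pullback.fst (WidePullback.base fun _ : Fin d => f) (WidePullback.base fun _ : Fin e => g) ≫ permHom f d σ.down.1)
    (hρ₂ : ∀ σ, (ρ σ).hom ≫ pullback.snd (WidePullback.base fun _ : Fin d => f) (WidePullback.base fun _ : Fin e => g) =
        pullback.snd (WidePullback.base fun _ : Fin d => f) (WidePullback.base fun _ : Fin e => g) ≫ permHom g e σ.down.2)
    {u : pullback (WidePullback.base fun _ : Fin d => f) (WidePullback.base fun _ : Fin e => g) ⟶ pullback pP pQ}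
    (hu₁ : u ≫ pullback.fst pP pQ = pullback.fst _ _ ≫ qX)
    (hu₂ : u ≫ pullback.snd pP pQ = pullback.snd _ _ ≫ qZ)
    (hinv : ∀ σ, (ρ σ).hom ≫ u = u)
    {S0 : S.Opens} (hS0 : IsAffineOpen S0) {VP : P.Opens} (hVP : IsAffineOpen VP) (hPS : VP ≤ pP ⁻¹ᵁ S0)
    {VQ : Q.Opens} (hVQ : IsAffineOpen VQ) (hQS : VQ ≤ pQ ⁻¹ᵁ S0) :
    SGA1Quot.Good ρ u hinv (pullback.fst pP pQ ⁻¹ᵁ VP ⊓ pullback.snd pP pQ ⁻¹ᵁ VQ) := by
  classical
  let bX : fibPow f d ⟶ S := WidePullback.base _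
  let bZ : fibPow g e ⟶ S := WidePullback.base _
  let U : (pullback pP pQ).Opens := pullback.fst pP pQ ⁻¹ᵁ VP ⊓ pullback.snd pP pQ ⁻¹ᵁ VQ
  let W1 : (fibPow f d).Opens := qX ⁻¹ᵁ VP
  let W2 : (fibPow g e).Opens := qZ ⁻¹ᵁ VQ
  let W' : (pullback bX bZ).Opens := u ⁻¹ᵁ U
  haveI := hX.isQuot.affine
  haveI := hZ.isQuot.affine
  have hW1S : W1 ≤ bX ⁻¹ᵁ S0 := by
    change W1 ≤ (WidePullback.base fun _ : Fin d => f) ⁻¹ᵁ S0
    rw [← hX.over, Scheme.Hom.comp_preimage]
    exact fun x hx => hPS hx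
  have hW2S : W2 ≤ bZ ⁻¹ᵁ S0 := by
    change W2 ≤ (WidePullback.base fun _ : Fin e => g) ⁻¹ᵁ S0
    rw [← hZ.over, Scheme.Hom.comp_preimage]
    exact fun x hx => hQS hx
  have hW'eq : W' = pullback.fst bX bZ ⁻¹ᵁ W1 ⊓ pullback.snd bX bZ ⁻¹ᵁ W2 := by
    simp only [W', U, W1, W2, bX, bZ, Scheme.Hom.preimage_inf, ← Scheme.Hom.comp_preimage, hu₁, hu₂]
  haveI := isIso_pushoutSection_of_isAffineOpen (IsPullback.of_hasPullback pP pQ) hQS hPS
    (rfl : U = _) hS0 hVQ hVP
  have hpoT := (isIso_pushoutSection_iff (IsPullback.of_hasPullback pP pQ) hQS hPS (rfl : U = _)).mp this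
  haveI := isIso_pushoutSection_of_isAffineOpen (IsPullback.of_hasPullback bX bZ) hW2S hW1S
    hW'eq hS0 (hVQ.preimage qZ) (hVP.preimage qX)
  have hpoP := (isIso_pushoutSection_iff (IsPullback.of_hasPullback bX bZ) hW2S hW1S hW'eq).mp this
  letI algVP : Algebra Γ(S, S0) Γ(P, VP) := (pP.appLE S0 VP hPS).hom.toAlgebra
  letI algVQ : Algebra Γ(S, S0) Γ(Q, VQ) := (pQ.appLE S0 VQ hQS).hom.toAlgebra
  letI algW1 : Algebra Γ(S, S0) Γ(fibPow f d, W1) := (bX.appLE S0 W1 hW1S).hom.toAlgebra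
  letI algW2 : Algebra Γ(S, S0) Γ(fibPow g e, W2) := (bZ.appLE S0 W2 hW2S).hom.toAlgebra
  obtain ⟨LT, hLT, hLT'⟩ := exists_bijective_of_isPushout (A := Γ(S, S0)) (B := Γ(P, VP))
    (C := Γ(Q, VQ)) hpoT
  obtain ⟨LP, hLP, hLP'⟩ := exists_bijective_of_isPushout (A := Γ(S, S0)) (B := Γ(fibPow f d, W1))
    (C := Γ(fibPow g e, W2)) hpoP
  let i : Γ(P, VP) →ₗ[Γ(S, S0)] Γ(fibPow f d, W1) := appLELinear qX le_rfl _ _ (by
    rw [Scheme.Hom.appLE_comp_appLE]; simp only [hX.over]; rfl)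
  let j : Γ(Q, VQ) →ₗ[Γ(S, S0)] Γ(fibPow g e, W2) := appLELinear qZ le_rfl _ _ (by
    rw [Scheme.Hom.appLE_comp_appLE]; simp only [hZ.over]; rfl)
  let a : Equiv.Perm (Fin d) → (Γ(fibPow f d, W1) →ₗ[Γ(S, S0)] Γ(fibPow f d, W1)) := fun σ =>
    appLELinear (permHom f d σ) (SGA1.preimage_le_of_inv (permActU f d) qX hX.isQuot.inv ⟨σ⟩ VP) _ _ (by
      rw [Scheme.Hom.appLE_comp_appLE]; simp only [bX, permHom_base]; rfl)
  let b : Equiv.Perm (Fin e) → (Γ(fibPow g e, W2) →ₗ[Γ(S, S0)] Γ(fibPow g e, W2)) := fun σ =>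
    appLELinear (permHom g e σ) (SGA1.preimage_le_of_inv (permActU g e) qZ hZ.isQuot.inv ⟨σ⟩ VQ) _ _ (by
      rw [Scheme.Hom.appLE_comp_appLE]; simp only [bZ, permHom_base]; rfl)
  have hiapp : ∀ x, i x = (qX.app VP).hom x := fun x => by
    rw [Scheme.Hom.app_eq_appLE]; rfl
  have hjapp : ∀ x, j x = (qZ.app VQ).hom x := fun x => by
    rw [Scheme.Hom.app_eq_appLE]; rfl
  have hi : Function.Injective i := fun x y hxy => hX.isQuot.injective VP (by
    rw [← hiapp, ← hiapp, hxy])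
  have hj : Function.Injective j := fun x y hxy => hZ.isQuot.injective VQ (by
    rw [← hjapp, ← hjapp, hxy])
  have hfix : ∀ σ c, a σ (i c) = i c := fun σ c => by
    rw [hiapp]; exact (hX.isQuot.range_iff VP _).mp ⟨c, rfl⟩ ⟨σ⟩
  have hfix' : ∀ σ c, b σ (j c) = j c := fun σ c => by
    rw [hjapp]; exact (hZ.isQuot.range_iff VQ _).mp ⟨c, rfl⟩ ⟨σ⟩
  have hr : ∀ x, (∀ σ, a σ x = x) → x ∈ Set.range i := fun x hx => by
    obtain ⟨v, hv⟩ := (hX.isQuot.range_iff VP x).mpr fun σ => hx σ.down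
    exact ⟨v, (hiapp v).trans hv⟩
  have hr' : ∀ x, (∀ σ, b σ x = x) → x ∈ Set.range j := fun x hx => by
    obtain ⟨v, hv⟩ := (hZ.isQuot.range_iff VQ x).mpr fun σ => hx σ.down
    exact ⟨v, (hjapp v).trans hv⟩
  have main : Function.Injective (TensorProduct.map i j) ∧
      ∀ y, (∀ s t, TensorProduct.map (a s) (b t) y = y) → y ∈ Set.range (TensorProduct.map i j) := by
    rcases h with ⟨hf, hg⟩ | hn
    · haveI := hf
      haveI := hg
      haveI := flat_fibPowBase f d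
      haveI : Module.Flat Γ(S, S0) Γ(fibPow f d, W1) := bX.flat_appLE hS0 (hVP.preimage qX) hW1S
      haveI : Module.Flat Γ(S, S0) Γ(Q, VQ) := flat_sections hZ hVQ hS0 hQS
      have h1 : a 1 = LinearMap.id := LinearMap.ext fun x => by
        change ((permHom f d 1).appLE W1 W1 _).hom x = x
        simp only [permHom_one, SGA1Quot.id_appLE]
        exact ConcreteCategory.congr_hom ((fibPow f d).presheaf.map_id (Opposite.op W1)) x
      have h2 : b 1 = LinearMap.id := LinearMap.ext fun x => by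
        change ((permHom g e 1).appLE W2 W2 _).hom x = x
        simp only [permHom_one, SGA1Quot.id_appLE]
        exact ConcreteCategory.congr_hom ((fibPow g e).presheaf.map_id (Opposite.op W2)) x
      exact bijOn_fixed_of_flat a 1 h1 i hi hfix hr b 1 h2 j hj hfix' hr'
    · refine bijOn_fixed_of_isUnit a i hi hfix (fun x => hr _ fun τ => ?_) b j hj hfix'
        (fun x => hr' _ fun τ => ?_) ?_
      · rw [map_sum]
        exact Fintype.sum_equiv (Equiv.mulRight τ) _ _ fun σ =>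
          act_mul_apply (ρ := permActU f d)
            (fun σ => SGA1.preimage_le_of_inv _ qX hX.isQuot.inv σ VP) ⟨σ⟩ ⟨τ⟩ x
      · rw [map_sum]
        exact Fintype.sum_equiv (Equiv.mulRight τ) _ _ fun σ =>
          act_mul_apply (ρ := permActU g e)
            (fun σ => SGA1.preimage_le_of_inv _ qZ hZ.isQuot.inv σ VQ) ⟨σ⟩ ⟨τ⟩ x
      · have h := (hn (Fintype.card (Equiv.Perm (Fin d)) * Fintype.card (Equiv.Perm (Fin e)))
          (Nat.mul_pos Fintype.card_pos Fintype.card_pos)).map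
          (S.presheaf.map (homOfLE (le_top : S0 ≤ ⊤)).op).hom
        rwa [map_natCast] at h
  have happ : ∀ y, (u.app U).hom (LT y) = LP (TensorProduct.map i j y) := by
    intro y
    induction y using TensorProduct.induction_on with
    | zero => simp only [map_zero]
    | add x y hx hy => simp only [map_add, hx, hy]
    | tmul x y =>
      rw [TensorProduct.map_tmul, hLT', hLP', map_mul]
      change _ = ((pullback.fst bX bZ).appLE W1 W' _).hom ((qX.appLE VP W1 le_rfl).hom x) *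
        ((pullback.snd bX bZ).appLE W2 W' _).hom ((qZ.appLE VQ W2 le_rfl).hom y)
      simp only [Scheme.Hom.app_eq_appLE, ← CommRingCat.comp_apply, Scheme.Hom.appLE_comp_appLE,
        hu₁, hu₂]
      rfl
  refine ⟨fun x y hxy => ?_, fun s hs => ?_⟩
  · obtain ⟨x, rfl⟩ := hLT.2 x
    obtain ⟨y, rfl⟩ := hLT.2 y
    rw [happ, happ] at hxy
    rw [main.1 (hLP.1 hxy)]
  · obtain ⟨y, rfl⟩ := hLP.2 s
    have hy : ∀ σ τ, TensorProduct.map (a σ) (b τ) y = y := by
      intro σ τ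
      refine hLP.1 (Eq.trans ?_ (hs ⟨(σ, τ)⟩))
      clear hs
      induction y using TensorProduct.induction_on with
      | zero => simp only [map_zero]
      | add x y hx hy => simp only [map_add, hx, hy]
      | tmul x y =>
        rw [TensorProduct.map_tmul, hLP', hLP', map_mul]
        change ((pullback.fst bX bZ).appLE W1 W' _).hom (((permHom f d σ).appLE W1 W1 _).hom x) *
          ((pullback.snd bX bZ).appLE W2 W' _).hom (((permHom g e τ).appLE W2 W2 _).hom y) =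
          ((ρ ⟨(σ, τ)⟩).hom.appLE W' W' _).hom (((pullback.fst bX bZ).appLE W1 W' _).hom x) *
          ((ρ ⟨(σ, τ)⟩).hom.appLE W' W' _).hom (((pullback.snd bX bZ).appLE W2 W' _).hom y)
        simp only [← CommRingCat.comp_apply, Scheme.Hom.appLE_comp_appLE, bX, bZ, hρ₁, hρ₂]
    obtain ⟨z, rfl⟩ := main.2 y hy
    exact ⟨LT z, happ z⟩

end Groth.Agent.SymCmp
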