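import Mathlib.RingTheory.Invariant.Basic
import Mathlib.RingTheory.Ideal.GoingUp
import Mathlib.RingTheory.Flat.EquationalCriterion
import Mathlib.GroupTheory.Coset.Basic

/-!
# Localising questions about invariants at decomposition groups

If `G` acts on `B`, `q` is a prime of `B` and `H ≤ G` contains the stabiliser of `q`, the relative
trace `Tr H (e * ·)` for a suitable separator `e` moves `H`-invariant data near `q` to `G`-invariant
data.  This gives local-to-global principles for spanning and for flatness of invariants.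
-/

set_option linter.style.haveILetI false

universe u

open scoped Pointwise

namespace Groth.Agent.SymCmp

variable {G : Type*} [Group G] {B : Type*} [CommRing B] [MulSemiringAction G B]

/-- The subring of elements fixed by `H`. -/
def fixSubring (H : Subgroup G) (B : Type*) [CommRing B] [MulSemiringAction G B] : Subring B where
  carrier := {b | ∀ g ∈ H, g • b = b}
  zero_mem' g _ := smul_zero g
  one_mem' g _ := smul_one g
  add_mem' {a b} ha hb g hg := by rw [smul_add, ha g hg, hb g hg]
  mul_mem' {a b} ha hb g hg := by rw [smul_mul', ha g hg, hb g hg]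
  neg_mem' {a} ha g hg := by rw [smul_neg, ha g hg]

theorem mem_fixSubring {H : Subgroup G} {b : B} : b ∈ fixSubring H B ↔ ∀ g ∈ H, g • b = b := Iff.rfl

theorem mem_fixSubring_top {b : B} : b ∈ fixSubring (⊤ : Subgroup G) B ↔ ∀ g : G, g • b = b := by
  simp [mem_fixSubring]

/-- `H` contains the stabiliser of `q`. -/
def StabLE (q : Ideal B) (H : Subgroup G) : Prop :=
  ∀ g : G, (∀ x : B, g • x ∈ q ↔ x ∈ q) → g ∈ H

theorem smul_mem_iff_of_forall {q : Ideal B} [Finite G] {k : G} (h : ∀ x : B, k • x ∈ q → x ∈ q)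
    (x : B) : k • x ∈ q ↔ x ∈ q := by
  refine ⟨h x, fun hx => ?_⟩
  have hit : ∀ (n : ℕ) (y : B), k ^ n • y ∈ q → y ∈ q := by
    intro n
    induction n with
    | zero => intro y hy; simpa using hy
    | succ n ih => intro y hy; exact ih y (h _ (by rwa [← mul_smul, ← pow_succ']))
  refine hit (orderOf k - 1) _ ?_
  rwa [← mul_smul, ← pow_succ, Nat.sub_add_cancel (orderOf_pos k), pow_orderOf_eq_one, one_smul]

/-- A separator of `q` from its translates outside `H`. -/
theorem exists_separator [Finite G] (q : Ideal B) [q.IsPrime] {H : Subgroup G} (hH : StabLE q H) :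
    ∃ e ∈ fixSubring H B, e ∉ q ∧ ∀ g ∉ H, g • e ∈ q := by
  classical
  haveI := Fintype.ofFinite G
  let P : G → Ideal B := fun g => q.comap (MulSemiringAction.toRingHom G B g)
  have hP : ∀ g x, x ∈ P g ↔ g • x ∈ q := fun g x => Iff.rfl
  have hne : ∀ g ∉ H, ∀ h ∈ H, ¬ P g ≤ P h := by
    intro g hg h hh hle
    refine hg ?_
    have hk : g * h⁻¹ ∈ H := hH _ (smul_mem_iff_of_forall fun y hy => by
      have := hle (show h⁻¹ • y ∈ P g by rwa [hP, ← mul_smul])
      rwa [hP, smul_inv_smul] at this)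
    simpa using H.mul_mem hk hh
  have hex : ∀ g : G, ∃ a : B, (g ∉ H → g • a ∈ q) ∧ ∀ h ∈ H, h • a ∉ q := by
    intro g
    by_cases hg : g ∈ H
    · exact ⟨1, fun h => absurd hg h, fun h _ => by
        rw [smul_one]; exact (Ideal.ne_top_iff_one q).mp (Ideal.IsPrime.ne_top ‹_›)⟩
    · by_contra! hno
      have hsub : (P g : Set B) ⊆ ⋃ h ∈ (↑(Finset.univ.filter (· ∈ H)) : Set G), (P h : Set B) := by
        intro a ha
        obtain ⟨h, hh, hmem⟩ := hno a fun _ => ha
        exact Set.mem_biUnion (by simpa using hh) hmem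
      obtain ⟨h, hh, hle⟩ := (Ideal.subset_union_prime (R := B) g g
        fun h _ _ _ => Ideal.IsPrime.comap _).1 hsub
      exact hne g hg h (by simpa using hh) hle
  choose a ha ha' using hex
  let e₀ := ∏ g, a g
  refine ⟨∏ h : H, (h : G) • e₀, fun k hk => ?_, fun hmem => ?_, fun g hg => ?_⟩
  · rw [Finset.smul_prod']
    exact Fintype.prod_equiv (Equiv.mulLeft (⟨k, hk⟩ : H)) _ _ fun h => by simp [mul_smul]
  · obtain ⟨h, -, hh⟩ := (Ideal.IsPrime.prod_mem_iff (p := q)).mp hmem
    rw [Finset.smul_prod'] at hh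
    obtain ⟨g, -, hg⟩ := (Ideal.IsPrime.prod_mem_iff (p := q)).mp hh
    exact ha' g h h.2 hg
  · rw [Finset.smul_prod']
    refine Ideal.prod_mem _ (Finset.mem_univ (1 : H)) ?_
    rw [OneMemClass.coe_one, one_smul, Finset.smul_prod']
    exact Ideal.prod_mem _ (Finset.mem_univ g) (ha g hg)

variable [Finite G]

/-- The relative trace from `H`-invariants to `G`-invariants. -/
noncomputable def tr (H : Subgroup G) : B →+ B :=
  letI := Fintype.ofFinite (G ⧸ H)
  ∑ x : G ⧸ H, DistribSMul.toAddMonoidHom B x.out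

theorem tr_apply (H : Subgroup G) (b : B) :
    tr H b = (letI := Fintype.ofFinite (G ⧸ H); ∑ x : G ⧸ H, x.out • b) := by
  simp [tr]

theorem tr_mem (H : Subgroup G) {b : B} (hb : b ∈ fixSubring H B) :
    tr H b ∈ fixSubring (⊤ : Subgroup G) B := by
  letI := Fintype.ofFinite (G ⧸ H)
  intro g _
  rw [tr_apply, Finset.smul_sum]
  refine Fintype.sum_equiv (MulAction.toPerm g) _ _ fun x => ?_
  obtain ⟨h, hh⟩ := QuotientGroup.mk_out_eq_mul H (g * x.out)
  have : MulAction.toPerm g x = ((g * x.out : G) : G ⧸ H) := by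
    conv_lhs => rw [← x.out_eq']
    rfl
  rw [this, hh, mul_smul, hb _ h.2, mul_smul]

theorem tr_mul (H : Subgroup G) (b : B) {f : B} (hf : f ∈ fixSubring (⊤ : Subgroup G) B) :
    tr H (b * f) = tr H b * f := by
  letI := Fintype.ofFinite (G ⧸ H)
  simp only [tr_apply, Finset.sum_mul, smul_mul', hf _ (Subgroup.mem_top _)]

theorem map_tr {C : Type*} [CommRing C] [MulSemiringAction G C] (φ : B →+* C)
    (hφ : ∀ (g : G) b, φ (g • b) = g • φ b) (H : Subgroup G) (b : B) : φ (tr H b) = tr H (φ b) := by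
  simp only [tr_apply, map_sum, hφ]

theorem tr_notMem {H : Subgroup G} {q : Ideal B} [q.IsPrime] {e y : B} (he : e ∈ fixSubring H B)
    (heq : e ∉ q) (heg : ∀ g ∉ H, g • e ∈ q) (hy : y ∈ fixSubring H B) (hyq : y ∉ q) :
    tr H (e * y) ∉ q := by
  classical
  letI := Fintype.ofFinite (G ⧸ H)
  rw [tr_apply, ← Finset.add_sum_erase _ _ (Finset.mem_univ ((1 : G) : G ⧸ H))]
  have h1 : (((1 : G) : G ⧸ H)).out • (e * y) = e * y := by
    obtain ⟨h, hh⟩ := QuotientGroup.mk_out_eq_mul H (1 : G)
    rw [hh, one_mul]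
    exact mul_mem he hy _ h.2
  have h2 : ∑ x ∈ Finset.univ.erase (((1 : G) : G ⧸ H)), x.out • (e * y) ∈ q := by
    refine Ideal.sum_mem _ fun x hx => ?_
    rw [smul_mul']
    refine Ideal.mul_mem_right _ _ (heg _ fun hmem => (Finset.mem_erase.mp hx).1 ?_)
    rw [← x.out_eq']
    exact QuotientGroup.eq.mpr (by simpa using hmem)
  intro hmem
  rw [h1] at hmem
  exact (‹q.IsPrime›.mem_or_mem ((Ideal.add_mem_iff_left _ h2).mp hmem)).elim heq hyq

/-- An ideal of the invariants containing, near every prime, a relative trace, is everything. -/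
theorem eq_top_of_local (J : Ideal (fixSubring (⊤ : Subgroup G) B))
    (h : ∀ q : Ideal B, q.IsPrime → ∃ (H : Subgroup G) (y : B), StabLE q H ∧ y ∈ fixSubring H B ∧
      y ∉ q ∧ ∀ e ∈ fixSubring H B, ∀ u : fixSubring (⊤ : Subgroup G) B,
        (u : B) = tr H (e * y) → u ∈ J) :
    J = ⊤ := by
  by_contra hJ
  obtain ⟨m, hm, hJm⟩ := Ideal.exists_le_maximal J hJ
  haveI : SMulCommClass G (fixSubring (⊤ : Subgroup G) B) B :=
    ⟨fun g a b => by
      rw [Subring.smul_def, Subring.smul_def, smul_eq_mul, smul_eq_mul, smul_mul',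
        a.2 g (Subgroup.mem_top _)]⟩
  haveI : Algebra.IsInvariant (fixSubring (⊤ : Subgroup G) B) B G :=
    ⟨fun b hb => ⟨⟨b, fun g _ => hb g⟩, rfl⟩⟩
  haveI := Algebra.IsInvariant.isIntegral (fixSubring (⊤ : Subgroup G) B) B G
  obtain ⟨q, -, hqp, hq⟩ := Ideal.exists_ideal_over_prime_of_isIntegral m (⊥ : Ideal B) (by
    intro a ha
    rw [Ideal.mem_comap, Ideal.mem_bot] at ha
    have : a = 0 := Subtype.ext ha
    simp [this])
  obtain ⟨H, y, hst, hy, hyq, hu⟩ := h q hqp
  obtain ⟨e, he, heq, heg⟩ := exists_separator q hst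
  have hmem := hJm (hu e he ⟨_, tr_mem H (mul_mem he hy)⟩ rfl)
  rw [← hq] at hmem
  exact tr_notMem he heq heg hy hyq hmem

section Span

variable {C : Type*} [CommRing C] [MulSemiringAction G C] (φ : B →+* C) (K : Set C)

/-- Combinations with coefficients in `K` of images of `H`-invariants. -/
def invSpan (H : Subgroup G) : AddSubmonoid C :=
  AddSubmonoid.closure {x | ∃ a ∈ K, ∃ b ∈ fixSubring H B, a * φ b = x}

omit [Finite G] [MulSemiringAction G C] in
theorem invSpan_mul_mem {H : Subgroup G} {x : C} (hx : x ∈ invSpan φ K H) {b : B}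
    (hb : b ∈ fixSubring H B) : φ b * x ∈ invSpan φ K H := by
  induction hx using AddSubmonoid.closure_induction with
  | mem x hx =>
    obtain ⟨a, ha, b', hb', rfl⟩ := hx
    exact AddSubmonoid.subset_closure ⟨a, ha, b * b', mul_mem hb hb', by rw [map_mul]; ring⟩
  | zero => rw [mul_zero]; exact zero_mem _
  | add x y _ _ hx hy => rw [mul_add]; exact add_mem hx hy

/-- Local-to-global principle for spanning invariants. -/
theorem mem_invSpan_of_local (hφ : ∀ (g : G) b, φ (g • b) = g • φ b)
    (hK : ∀ a ∈ K, ∀ g : G, g • a = a) {c : C} (hc : ∀ g : G, g • c = c)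
    (h : ∀ q : Ideal B, q.IsPrime → ∃ (H : Subgroup G) (y : B), StabLE q H ∧ y ∈ fixSubring H B ∧
      y ∉ q ∧ φ y * c ∈ invSpan φ K H) :
    c ∈ invSpan φ K (⊤ : Subgroup G) := by
  let J : Ideal (fixSubring (⊤ : Subgroup G) B) :=
    { carrier := {u | φ u * c ∈ invSpan φ K (⊤ : Subgroup G)}
      add_mem' := fun {a b} ha hb => by
        simp only [Set.mem_ofPred_eq, Subring.coe_add, map_add, add_mul] at ha hb ⊢
        exact add_mem ha hb
      zero_mem' := by simp
      smul_mem' := fun a b hb => by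
        simp only [Set.mem_ofPred_eq, smul_eq_mul, Subring.coe_mul, map_mul, mul_assoc] at hb ⊢
        exact invSpan_mul_mem φ K hb a.2 }
  have hJ : J = ⊤ := eq_top_of_local J fun q hq => by
    obtain ⟨H, y, hst, hy, hyq, hyc⟩ := h q hq
    refine ⟨H, y, hst, hy, hyq, fun e he u hu => ?_⟩
    change φ (u : B) * c ∈ invSpan φ K (⊤ : Subgroup G)
    rw [hu, map_tr φ hφ, ← tr_mul H _ (mem_fixSubring_top.mpr hc), map_mul φ, mul_assoc]
    generalize φ y * c = x at hyc
    induction hyc using AddSubmonoid.closure_induction with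
    | mem x hx =>
      obtain ⟨a, ha, b, hb, rfl⟩ := hx
      rw [show φ e * (a * φ b) = φ (e * b) * a by rw [map_mul]; ring,
        tr_mul H _ (mem_fixSubring_top.mpr (hK a ha)), ← map_tr φ hφ]
      exact AddSubmonoid.subset_closure ⟨a, ha, _, tr_mem H (mul_mem he hb), mul_comm _ _⟩
    | zero => rw [mul_zero, map_zero]; exact zero_mem _
    | add x y _ _ hx hy => rw [mul_add, map_add]; exact add_mem hx hy
  have h1 : (1 : fixSubring (⊤ : Subgroup G) B) ∈ J := hJ ▸ Submodule.mem_top
  simpa [J] using h1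

end Span

section Flat

variable {A : Type*} [CommRing A] [Algebra A B] [SMulCommClass G A B]

/-- The `A`-module of `H`-invariants. -/
def fixModule (A : Type*) [CommRing A] (H : Subgroup G) (B : Type*) [CommRing B]
    [MulSemiringAction G B] [Algebra A B] [SMulCommClass G A B] : Submodule A B where
  carrier := fixSubring H B
  zero_mem' := zero_mem _
  add_mem' := add_mem
  smul_mem' a b hb g hg := by rw [smul_comm, hb g hg]

/-- Local-to-global principle for flatness of invariants: it is enough that near every prime the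
linear relations between invariants become trivial among `H`-invariants. -/
theorem flat_fixModule_of_local
    (h : ∀ q : Ideal B, q.IsPrime → ∀ {l : ℕ} (a : Fin l → A) (b : Fin l → B),
      (∀ i, b i ∈ fixSubring (⊤ : Subgroup G) B) → ∑ i, a i • b i = 0 →
      ∃ (H : Subgroup G) (y : B), StabLE q H ∧ y ∈ fixSubring H B ∧ y ∉ q ∧
        ∃ (k : ℕ) (c : Fin l → Fin k → A) (β : Fin k → B), (∀ j, β j ∈ fixSubring H B) ∧
          (∀ i, y * b i = ∑ j, c i j • β j) ∧ ∀ j, ∑ i, a i * c i j = 0) :
    Module.Flat A (fixModule A (⊤ : Subgroup G) B) := by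
  refine Module.Flat.iff_forall_isTrivialRelation.mpr fun {l f x} hfx => ?_
  have hfx' : ∑ i, f i • (x i : B) = 0 := by
    simpa using congrArg Subtype.val hfx
  let P : (fixSubring (⊤ : Subgroup G) B) → Prop := fun u =>
    ∃ (k : ℕ) (c : Fin l → Fin k → A) (β : Fin k → B), (∀ j, β j ∈ fixSubring (⊤ : Subgroup G) B) ∧
      (∀ i, (u : B) * x i = ∑ j, c i j • β j) ∧ ∀ j, ∑ i, f i * c i j = 0
  let J : Ideal (fixSubring (⊤ : Subgroup G) B) :=
    { carrier := {u | P u}
      add_mem' := by
        rintro u v ⟨k, c, β, hβ, hu, hc⟩ ⟨k', c', β', hβ', hv, hc'⟩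
        refine ⟨k + k', fun i => Fin.append (c i) (c' i), Fin.append β β', fun j => ?_, fun i => ?_,
          fun j => ?_⟩
        · exact Fin.addCases (fun j => by simpa using hβ j) (fun j => by simpa using hβ' j) j
        · simp [Fin.sum_univ_add, add_mul, hu, hv]
        · exact Fin.addCases (fun j => by simpa using hc j) (fun j => by simpa using hc' j) j
      zero_mem' := ⟨0, fun _ j => j.elim0, fun j => j.elim0, fun j => j.elim0, by simp, fun j => j.elim0⟩
      smul_mem' := by
        rintro v u ⟨k, c, β, hβ, hu, hc⟩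
        refine ⟨k, c, fun j => v * β j, fun j => mul_mem v.2 (hβ j), fun i => ?_, hc⟩
        rw [smul_eq_mul, Subring.coe_mul, mul_assoc, hu, Finset.mul_sum]
        simp only [mul_smul_comm] }
  have hJ : J = ⊤ := eq_top_of_local J fun q hq => by
    obtain ⟨H, y, hst, hy, hyq, k, c, β, hβ, hyb, hc⟩ := h q hq f (fun i => (x i : B)) (fun i => (x i).2) hfx'
    refine ⟨H, y, hst, hy, hyq, fun e he u hu => ?_⟩
    refine ⟨k, c, fun j => tr H (e * β j), fun j => tr_mem H (mul_mem he (hβ j)), fun i => ?_, hc⟩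
    rw [hu, ← tr_mul H _ (x i).2, mul_assoc, hyb, Finset.mul_sum, map_sum]
    refine Finset.sum_congr rfl fun j _ => ?_
    simp only [mul_smul_comm, tr_apply, Finset.smul_sum]
    exact Finset.sum_congr rfl fun g _ => smul_comm _ _ _
  obtain ⟨k, c, β, hβ, h1, hc⟩ := (hJ ▸ Submodule.mem_top : (1 : fixSubring (⊤ : Subgroup G) B) ∈ J)
  refine ⟨k, c, fun j => ⟨β j, hβ j⟩, fun i => Subtype.ext ?_, hc⟩
  simpa using h1 i

end Flat

end Groth.Agent.SymCmp
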