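import Groth.Agent.SymCmp.Young
import Groth.Agent.SymCmp.Trace
import Groth.Prelude.Def_SymProd
import Mathlib.AlgebraicGeometry.Morphisms.Flat
import Mathlib.AlgebraicGeometry.Morphisms.ClosedImmersion

/-!
# Young blocks in fibre powers

In a fibre power, the product `∏ U (c i)` of affine opens over an affine open of the base is affine and
its ring is a block of the tensor power of `∏ Γ(U x)`; if the `Γ(U x)` are flat, the invariants under
the stabiliser of `c` are spanned by orbit sums and have only trivial relations.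
-/

set_option linter.style.haveILetI false

universe u

open CategoryTheory CategoryTheory.Limits AlgebraicGeometry TopologicalSpace

namespace Groth.Agent.SymCmp

variable {Z S P : Scheme.{u}} {d : ℕ}

/-- `P` is the `d`-fold fibre power of `b : Z ⟶ S`. -/
structure IsFibPow (b : Z ⟶ S) (base : P ⟶ S) (pr : Fin d → (P ⟶ Z)) : Prop where
  w : ∀ i, pr i ≫ b = base
  lift : ∀ {T : Scheme.{u}} (g : T ⟶ S) (h : Fin d → (T ⟶ Z)), (∀ i, h i ≫ b = g) →
    ∃ l : T ⟶ P, l ≫ base = g ∧ ∀ i, l ≫ pr i = h i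
  ext : ∀ {T : Scheme.{u}} (l l' : T ⟶ P), l ≫ base = l' ≫ base →
    (∀ i, l ≫ pr i = l' ≫ pr i) → l = l'

theorem isFibPow_fibPow (f : Z ⟶ S) (d : ℕ) :
    IsFibPow f (WidePullback.base fun _ : Fin d => f) (fun i => WidePullback.π (fun _ : Fin d => f) i) where
  w i := WidePullback.π_arrow _ i
  lift g h w := ⟨WidePullback.lift g h w, WidePullback.lift_base _ _ _ _,
    fun i => WidePullback.lift_π _ _ _ _ i⟩
  ext l l' hb hp := WidePullback.hom_ext _ _ _ hp hb

theorem IsFibPow.pullback {b : Z ⟶ S} {base : P ⟶ S} {pr : Fin d → (P ⟶ Z)} (h : IsFibPow b base pr)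
    {S' Z' P' : Scheme.{u}} {gS : S' ⟶ S} {a : Z' ⟶ Z} {b' : Z' ⟶ S'} (hZ : IsPullback a b' b gS)
    {π₁ : P' ⟶ P} {π₂ : P' ⟶ S'} (hP : IsPullback π₁ π₂ base gS) (pr' : Fin d → (P' ⟶ Z'))
    (hpr₁ : ∀ i, pr' i ≫ a = π₁ ≫ pr i) (hpr₂ : ∀ i, pr' i ≫ b' = π₂) :
    IsFibPow b' π₂ pr' where
  w := hpr₂
  lift g k w := by
    obtain ⟨l, hl, hli⟩ := h.lift (g ≫ gS) (fun i => k i ≫ a) fun i => by
      rw [Category.assoc, hZ.w, ← Category.assoc, w]
    refine ⟨hP.lift l g hl, hP.lift_snd _ _ _, fun i => hZ.hom_ext ?_ ?_⟩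
    · rw [Category.assoc, hpr₁, hP.lift_fst_assoc, hli]
    · rw [Category.assoc, hpr₂, hP.lift_snd, w]
  ext l l' hb hp := by
    refine hP.hom_ext (h.ext _ _ ?_ fun i => ?_) hb
    · rw [Category.assoc, Category.assoc, hP.w, ← Category.assoc, hb, Category.assoc]
    · rw [Category.assoc, Category.assoc, ← hpr₁, ← Category.assoc, hp, Category.assoc]

variable (base : P ⟶ S) (pr : Fin d → (P ⟶ Z)) {I : Type u} (c : Fin d → I) (U : I → Z.Opens) (O : S.Opens)

/-- The product of the opens `U (c i)` over `O`. -/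
def boxOpen : P.Opens :=
  ⟨base.base ⁻¹' (O : Set S) ∩ ⋂ i : Fin d, (pr i).base ⁻¹' (U (c i) : Set Z),
    (O.isOpen.preimage base.continuous).inter
      (isOpen_iInter_of_finite fun i => (U (c i)).isOpen.preimage (pr i).continuous)⟩

theorem mem_boxOpen {z : P} :
    z ∈ boxOpen base pr c U O ↔ base z ∈ O ∧ ∀ i, pr i z ∈ U (c i) := by
  rw [← SetLike.mem_coe]
  show z ∈ _ ∩ _ ↔ _
  rw [Set.mem_inter_iff, Set.mem_iInter]
  rfl

theorem boxOpen_le_base : boxOpen base pr c U O ≤ base ⁻¹ᵁ O :=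
  fun _ hz => ((mem_boxOpen base pr c U O).mp hz).1

theorem boxOpen_le_pr (i : Fin d) : boxOpen base pr c U O ≤ pr i ⁻¹ᵁ U (c i) :=
  fun _ hz => ((mem_boxOpen base pr c U O).mp hz).2 i

theorem boxOpen_stable (σ : Equiv.Perm (Fin d)) (hσ : σ ∈ colStab c) (a : P ⟶ P)
    (ha : ∀ i, a ≫ pr i = pr (σ.symm i)) (hab : a ≫ base = base) :
    boxOpen base pr c U O ≤ a ⁻¹ᵁ boxOpen base pr c U O := by
  intro z hz
  obtain ⟨h1, h2⟩ := (mem_boxOpen base pr c U O).mp hz
  refine (mem_boxOpen base pr c U O).mpr ⟨?_, fun i => ?_⟩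
  · rwa [← Scheme.Hom.comp_apply, hab]
  · rw [← Scheme.Hom.comp_apply, ha]
    have := h2 (σ.symm i)
    rwa [show c (σ.symm i) = c i by simpa using (hσ (σ.symm i)).symm] at this

variable {base pr c U O} {b : Z ⟶ S}

theorem IsFibPow.isAffineOpen_boxOpen (hP : IsFibPow b base pr) (hO : IsAffineOpen O)
    (hU : ∀ x, IsAffineOpen (U x)) (hle : ∀ x, U x ≤ b ⁻¹ᵁ O) :
    IsAffineOpen (boxOpen base pr c U O) := by
  haveI : ∀ x, IsAffine (U x).toScheme := hU
  haveI : IsAffine O.toScheme := hO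
  let g : ∀ i : Fin d, (U (c i)).toScheme ⟶ O.toScheme := fun i => b.resLE O (U (c i)) (hle _)
  have hg : ∀ i, g i ≫ O.ι = (U (c i)).ι ≫ b := fun i => Scheme.Hom.resLE_comp_ι _ _
  let P₀ : Scheme.{u} := widePullback O.toScheme (fun i => (U (c i)).toScheme) g
  haveI : IsAffine P₀ := by
    haveI : ∀ j, IsAffine ((WidePullbackShape.wideCospan O.toScheme (fun i => (U (c i)).toScheme) g).obj j) := by
      rintro (_ | i)
      · exact hO
      · exact hU _
    exact Scheme.isAffine_of_isLimit _ (limit.isLimit _)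
  set W := boxOpen base pr c U O
  let π₀ : ∀ i, P₀ ⟶ (U (c i)).toScheme := fun i => WidePullback.π g i
  let b₀ : P₀ ⟶ O.toScheme := WidePullback.base g
  have hπ₀ : ∀ i, π₀ i ≫ g i = b₀ := fun i => WidePullback.π_arrow _ i
  obtain ⟨φ, hφb, hφπ⟩ := hP.lift (b₀ ≫ O.ι) (fun i => π₀ i ≫ (U (c i)).ι) fun i => by
    rw [Category.assoc, ← hg, ← Category.assoc, hπ₀]
  have hrange : Set.range φ ⊆ Set.range W.ι := by
    rintro _ ⟨p, rfl⟩
    rw [Scheme.Opens.range_ι]
    refine (mem_boxOpen _ _ _ _ _).mpr ⟨?_, fun i => ?_⟩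
    · rw [← Scheme.Hom.comp_apply, hφb, Scheme.Hom.comp_apply]
      exact (b₀ p).2
    · rw [← Scheme.Hom.comp_apply, hφπ, Scheme.Hom.comp_apply]
      exact (π₀ i p).2
  have hb : Set.range (W.ι ≫ base) ⊆ Set.range O.ι := by
    rintro _ ⟨z, rfl⟩
    rw [Scheme.Opens.range_ι]
    exact boxOpen_le_base base pr c U O z.2
  have hp : ∀ i, Set.range (W.ι ≫ pr i) ⊆ Set.range (U (c i)).ι := fun i => by
    rintro _ ⟨z, rfl⟩
    rw [Scheme.Opens.range_ι]
    exact boxOpen_le_pr base pr c U O i z.2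
  let ψ : W.toScheme ⟶ P₀ := WidePullback.lift (IsOpenImmersion.lift O.ι _ hb)
    (fun i => IsOpenImmersion.lift (U (c i)).ι _ (hp i)) fun i => by
      rw [← cancel_mono O.ι, Category.assoc, hg, IsOpenImmersion.lift_fac, ← Category.assoc,
        IsOpenImmersion.lift_fac, Category.assoc, hP.w]
  have hψb : ψ ≫ b₀ = IsOpenImmersion.lift O.ι _ hb := WidePullback.lift_base _ _ _ _
  have hψπ : ∀ i, ψ ≫ π₀ i = IsOpenImmersion.lift (U (c i)).ι _ (hp i) :=
    fun i => WidePullback.lift_π _ _ _ _ i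
  let φ' := IsOpenImmersion.lift W.ι φ hrange
  have hφ' : φ' ≫ W.ι = φ := IsOpenImmersion.lift_fac _ _ _
  have h1 : φ' ≫ ψ = 𝟙 P₀ := by
    refine WidePullback.hom_ext _ _ _ (fun i => ?_) ?_
    · show (φ' ≫ ψ) ≫ π₀ i = 𝟙 P₀ ≫ π₀ i
      rw [← cancel_mono (U (c i)).ι, Category.assoc φ', hψπ, Category.assoc, IsOpenImmersion.lift_fac,
        ← Category.assoc, hφ', hφπ, Category.id_comp]
    · show (φ' ≫ ψ) ≫ b₀ = 𝟙 P₀ ≫ b₀
      rw [← cancel_mono O.ι, Category.assoc φ', hψb, Category.assoc, IsOpenImmersion.lift_fac,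
        ← Category.assoc, hφ', hφb, Category.id_comp]
  have h2 : ψ ≫ φ' = 𝟙 _ := by
    rw [← cancel_mono W.ι, Category.assoc, hφ', Category.id_comp]
    refine hP.ext _ _ ?_ fun i => ?_
    · rw [Category.assoc, hφb, ← Category.assoc, hψb, IsOpenImmersion.lift_fac]
    · rw [Category.assoc, hφπ, ← Category.assoc, hψπ, IsOpenImmersion.lift_fac]
  haveI : IsIso ψ := ⟨φ', h2, h1⟩
  exact IsAffine.of_isIso ψ

variable [DecidableEq I]

/-- The generators of a block. -/
def blockGen (G : ∀ x, Set Γ(Z, U x)) : Set (∀ x, Γ(Z, U x)) := {r | ∃ x, ∃ g ∈ G x, Pi.single x g = r}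

/-- The coordinate map of a block on sections. -/
noncomputable def blockPi (i : Fin d) (r : ∀ x, Γ(Z, U x)) : Γ(P, boxOpen base pr c U O) :=
  ((pr i).appLE (U (c i)) _ (boxOpen_le_pr base pr c U O i)).hom (r (c i))

variable [Finite I]

theorem isBlock_boxOpen (hP : IsFibPow b base pr) (hO : IsAffineOpen O)
    (hU : ∀ x, IsAffineOpen (U x)) (hle : ∀ x, U x ≤ b ⁻¹ᵁ O) :
    letI : ∀ x, Algebra Γ(S, O) Γ(Z, U x) := fun x => (b.appLE O (U x) (hle x)).hom.toAlgebra
    letI : Algebra Γ(S, O) Γ(P, boxOpen base pr c U O) :=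
      (base.appLE O _ (boxOpen_le_base base pr c U O)).hom.toAlgebra
    ∃ π : Fin d → ((∀ x, Γ(Z, U x)) →ₐ[Γ(S, O)] Γ(P, boxOpen base pr c U O)),
      IsBlock c (fun i => Pi.single (c i) 1) π ∧ ∀ i r, π i r = blockPi i r := by
  classical
  letI algU : ∀ x, Algebra Γ(S, O) Γ(Z, U x) := fun x => (b.appLE O (U x) (hle x)).hom.toAlgebra
  set W := boxOpen base pr c U O
  letI algW : Algebra Γ(S, O) Γ(P, W) := (base.appLE O _ (boxOpen_le_base base pr c U O)).hom.toAlgebra
  have hW : IsAffineOpen W := hP.isAffineOpen_boxOpen hO hU hle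
  let φ : ∀ i, Γ(Z, U (c i)) ⟶ Γ(P, W) := fun i =>
    (pr i).appLE (U (c i)) _ (boxOpen_le_pr base pr c U O i)
  have hcomm : ∀ i, b.appLE O (U (c i)) (hle _) ≫ φ i = base.appLE O W (boxOpen_le_base base pr c U O) := by
    intro i
    simp only [φ, Scheme.Hom.appLE_comp_appLE, hP.w]
  let π : Fin d → ((∀ x, Γ(Z, U x)) →ₐ[Γ(S, O)] Γ(P, W)) := fun i =>
    { (φ i).hom.comp (Pi.evalRingHom (fun x => Γ(Z, U x)) (c i)) with
      commutes' := fun a => ConcreteCategory.congr_hom (hcomm i) a }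
  refine ⟨π, ⟨fun i => ?_, fun i j h => by rw [h], fun i j => ?_, fun i => ?_, ?_, ?_⟩, fun i r => rfl⟩
  · rw [← Pi.single_mul, one_mul]
  · by_cases h : c i = c j
    · exact .inl h
    · refine .inr (funext fun x => ?_)
      by_cases hx : x = c i
      · subst hx; simp [h]
      · simp [hx]
  · change (φ i).hom ((Pi.single (c i) (1 : Γ(Z, U (c i))) : ∀ x, Γ(Z, U x)) (c i)) = 1
    rw [Pi.single_eq_same, map_one]
  · intro L _ _ g hg
    have hfac : ∀ i r, g i r = g i (Pi.single (c i) (r (c i))) := fun i r => by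
      rw [← mul_one (g i r), ← hg i, ← map_mul]
      congr 1
      funext x
      by_cases hx : x = c i
      · subst hx; simp
      · simp [hx]
    let h : ∀ i, Γ(Z, U (c i)) ⟶ CommRingCat.of L := fun i => CommRingCat.ofHom
      { toFun := fun r => g i (Pi.single (c i) r)
        map_one' := hg i
        map_mul' := fun r s => by rw [Pi.single_mul, map_mul]
        map_zero' := by rw [Pi.single_zero, map_zero]
        map_add' := fun r s => by rw [Pi.single_add, map_add] }
    let s : Γ(S, O) ⟶ CommRingCat.of L := CommRingCat.ofHom (algebraMap Γ(S, O) L)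
    have hs : ∀ i, b.appLE O (U (c i)) (hle _) ≫ h i = s := fun i => CommRingCat.hom_ext <|
      RingHom.ext fun a => ((hfac i (algebraMap Γ(S, O) _ a)).symm.trans ((g i).commutes a))
    obtain ⟨l, hlb, hlp⟩ := hP.lift (Spec.map s ≫ hO.fromSpec) (fun i => Spec.map (h i) ≫ (hU _).fromSpec)
      fun i => by
        rw [← hs i, Spec.map_comp, Category.assoc, Category.assoc,
          IsAffineOpen.SpecMap_appLE_fromSpec b hO (hU (c i)) (hle _)]
    have hrange : Set.range l ⊆ Set.range hW.fromSpec := by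
      rw [hW.range_fromSpec]
      rintro _ ⟨p, rfl⟩
      refine (mem_boxOpen _ _ _ _ _).mpr ⟨?_, fun i => ?_⟩
      · rw [← Scheme.Hom.comp_apply, hlb, Scheme.Hom.comp_apply]
        exact hO.range_fromSpec.le ⟨_, rfl⟩
      · rw [← Scheme.Hom.comp_apply, hlp, Scheme.Hom.comp_apply]
        exact (hU _).range_fromSpec.le ⟨_, rfl⟩
    obtain ⟨J, hJ⟩ := Spec.map_surjective (IsOpenImmersion.lift hW.fromSpec l hrange)
    have hJ' : Spec.map J ≫ hW.fromSpec = l := by rw [hJ, IsOpenImmersion.lift_fac]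
    have hJπ : ∀ i, φ i ≫ J = h i := fun i => by
      apply Spec.map_injective
      rw [← cancel_mono (hU (c i)).fromSpec, Spec.map_comp, Category.assoc,
        IsAffineOpen.SpecMap_appLE_fromSpec (pr i) (hU (c i)) hW, ← Category.assoc, hJ', hlp]
    have hJb : base.appLE O W (boxOpen_le_base base pr c U O) ≫ J = s := by
      apply Spec.map_injective
      rw [← cancel_mono hO.fromSpec, Spec.map_comp, Category.assoc,
        IsAffineOpen.SpecMap_appLE_fromSpec base hO hW, ← Category.assoc, hJ', hlb]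
    refine ⟨{ J.hom with commutes' := fun a => ConcreteCategory.congr_hom hJb a }, fun i => ?_⟩
    refine AlgHom.ext fun r => ?_
    exact (ConcreteCategory.congr_hom (hJπ i) (r (c i))).trans (hfac i r).symm
  · intro J hJ
    let J' : Γ(P, W) ⟶ Γ(P, W) := CommRingCat.ofHom J.toRingHom
    have hJ1 : ∀ i, φ i ≫ J' = φ i := fun i => CommRingCat.hom_ext <| RingHom.ext fun r => by
      have := AlgHom.congr_fun (hJ i) (Pi.single (c i) r)
      change J ((φ i).hom ((Pi.single (c i) r : ∀ x, Γ(Z, U x)) (c i))) =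
        (φ i).hom ((Pi.single (c i) r : ∀ x, Γ(Z, U x)) (c i)) at this
      rw [Pi.single_eq_same] at this
      exact this
    have hJ2 : base.appLE O W (boxOpen_le_base base pr c U O) ≫ J' =
        base.appLE O W (boxOpen_le_base base pr c U O) :=
      CommRingCat.hom_ext <| RingHom.ext fun a => J.commutes a
    have key : Spec.map J' ≫ hW.fromSpec = hW.fromSpec := by
      refine hP.ext _ _ ?_ fun i => ?_
      · rw [Category.assoc, ← IsAffineOpen.SpecMap_appLE_fromSpec base hO hW (boxOpen_le_base base pr c U O),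
          ← Category.assoc, ← Spec.map_comp, hJ2]
      · rw [Category.assoc, ← IsAffineOpen.SpecMap_appLE_fromSpec (pr i) (hU (c i)) hW (boxOpen_le_pr base pr c U O i),
          ← Category.assoc, ← Spec.map_comp]
        rw [show (pr i).appLE (U (c i)) W _ = φ i from rfl, hJ1]
    have : J' = 𝟙 _ := by
      apply Spec.map_injective
      rw [← cancel_mono hW.fromSpec, key, Spec.map_id, Category.id_comp]
    refine AlgHom.ext fun x => ?_
    exact ConcreteCategory.congr_hom this x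

variable (p : Equiv.Perm (Fin d) → (P ⟶ P))

/-- Invariant sections of a flat block are combinations of orbit sums of the given generators. -/
theorem mem_closure_worb (hP : IsFibPow b base pr) (hO : IsAffineOpen O)
    (hU : ∀ x, IsAffineOpen (U x)) (hle : ∀ x, U x ≤ b ⁻¹ᵁ O) [Flat b]
    (hp : ∀ σ i, p σ ≫ pr i = pr (σ.symm i)) (hpb : ∀ σ, p σ ≫ base = base)
    (G : ∀ x, Set Γ(Z, U x))
    (hG : ∀ x (r : Γ(Z, U x)),
      r ∈ AddSubmonoid.closure {t | ∃ a, ∃ g ∈ G x, (b.appLE O (U x) (hle x)).hom a * g = t})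
    {f : Γ(P, boxOpen base pr c U O)}
    (hf : ∀ σ (hσ : σ ∈ colStab c),
      ((p σ).appLE _ _ (boxOpen_stable base pr c U O σ hσ (p σ) (hp σ) (hpb σ))).hom f = f) :
    f ∈ AddSubmonoid.closure {t | ∃ (a : Γ(S, O)) (n : ℕ) (g : Fin n → ∀ x, Γ(Z, U x)) (α : Fin n →₀ ℕ),
      (∀ k, g k ∈ blockGen G) ∧
        (base.appLE O _ (boxOpen_le_base base pr c U O)).hom a * worb blockPi g α = t} := by
  classical
  letI algU : ∀ x, Algebra Γ(S, O) Γ(Z, U x) := fun x => (b.appLE O (U x) (hle x)).hom.toAlgebra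
  let W := boxOpen base pr c U O
  letI algW : Algebra Γ(S, O) Γ(P, W) := (base.appLE O _ (boxOpen_le_base base pr c U O)).hom.toAlgebra
  obtain ⟨π, hblock, hπ⟩ := isBlock_boxOpen (c := c) hP hO hU hle
  haveI hfl : ∀ x, Module.Flat Γ(S, O) Γ(Z, U x) := fun x => b.flat_appLE hO (hU x) (hle x)
  haveI : Module.Flat Γ(S, O) (∀ x, Γ(Z, U x)) := by
    haveI := Fintype.ofFinite I
    exact Module.Flat.of_linearEquiv (DirectSum.linearEquivFunOnFintype Γ(S, O) I fun x => Γ(Z, U x)).symm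
  have hspan : Submodule.span Γ(S, O) (blockGen G) = ⊤ := by
    haveI := Fintype.ofFinite I
    rw [eq_top_iff]
    intro r _
    rw [← Finset.univ_sum_single r]
    refine Submodule.sum_mem _ fun x _ => ?_
    generalize r x = t
    induction hG x t using AddSubmonoid.closure_induction with
    | mem t ht =>
      obtain ⟨a, g, hg, rfl⟩ := ht
      have : Pi.single x ((b.appLE O (U x) (hle x)).hom a * g) = a • (Pi.single x g : ∀ x, Γ(Z, U x)) := by
        funext y
        rw [Pi.smul_apply]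
        by_cases hy : y = x
        · subst hy; rw [Pi.single_eq_same, Pi.single_eq_same]; rfl
        · rw [Pi.single_eq_of_ne hy, Pi.single_eq_of_ne hy, smul_zero]
      rw [this]
      exact Submodule.smul_mem _ _ (Submodule.subset_span ⟨x, g, hg, rfl⟩)
    | zero => rw [Pi.single_zero]; exact Submodule.zero_mem _
    | add s t _ _ hs ht => rw [Pi.single_add]; exact Submodule.add_mem _ hs ht
  let a : Equiv.Perm (Fin d) → (Γ(P, W) →ₐ[Γ(S, O)] Γ(P, W)) := fun σ =>
    if hσ : σ⁻¹ ∈ colStab c then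
      { ((p σ⁻¹).appLE W W (boxOpen_stable base pr c U O _ hσ (p σ⁻¹) (hp _) (hpb _))).hom with
        commutes' := fun x => by
          change ((p σ⁻¹).appLE W W _).hom ((base.appLE O W _).hom x) = (base.appLE O W _).hom x
          rw [← CommRingCat.comp_apply, Scheme.Hom.appLE_comp_appLE]
          simp only [hpb] }
    else AlgHom.id _ _
  have ha : ∀ σ ∈ colStab c, ∀ i r, a σ (π i r) = π (σ i) r := by
    intro σ hσ i r
    have hσ' : σ⁻¹ ∈ colStab c := inv_mem hσ
    simp only [a, dif_pos hσ']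
    rw [hπ, hπ]
    change ((p σ⁻¹).appLE W W _).hom (blockPi i r) = blockPi (σ i) r
    unfold blockPi
    rw [← CommRingCat.comp_apply, Scheme.Hom.appLE_comp_appLE]
    simp only [hp, Equiv.Perm.inv_def, Equiv.symm_symm]
    have key : ∀ (x y : I) (hxy : x = y) (e1 : W ≤ pr (σ i) ⁻¹ᵁ U x) (e2 : W ≤ pr (σ i) ⁻¹ᵁ U y),
        ((pr (σ i)).appLE (U x) W e1).hom (r x) = ((pr (σ i)).appLE (U y) W e2).hom (r y) := by
      rintro x _ rfl e1 e2; rfl
    exact key _ _ (hσ i).symm _ _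
  have hf' : ∀ σ ∈ colStab c, a σ f = f := by
    intro σ hσ
    simp only [a, dif_pos (inv_mem hσ)]
    exact hf σ⁻¹ (inv_mem hσ)
  have hmem := hblock.mem_span_worb a ha hspan hf'
  clear hf hf'
  induction hmem using Submodule.span_induction with
  | mem x hx =>
    obtain ⟨n, g, α, hg, rfl⟩ := hx
    refine AddSubmonoid.subset_closure ⟨1, n, g, α, hg, ?_⟩
    rw [map_one, one_mul]
    simp only [worb, hπ]
  | zero => exact zero_mem _
  | add x y _ _ hx hy => exact add_mem hx hy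
  | smul r x hx0 hx =>
    clear hx0
    rw [Algebra.smul_def]
    induction hx using AddSubmonoid.closure_induction with
    | mem t ht =>
      obtain ⟨s, n, g, α, hg, rfl⟩ := ht
      exact AddSubmonoid.subset_closure ⟨r * s, n, g, α, hg, by rw [map_mul, mul_assoc]; rfl⟩
    | zero => rw [mul_zero]; exact zero_mem _
    | add s t _ _ hs ht => rw [mul_add]; exact add_mem hs ht

/-- Linear relations between invariant sections of a flat block are trivial. -/
theorem trivial_relation_boxOpen (hP : IsFibPow b base pr) (hO : IsAffineOpen O)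
    (hU : ∀ x, IsAffineOpen (U x)) (hle : ∀ x, U x ≤ b ⁻¹ᵁ O) [Flat b]
    (hp : ∀ σ i, p σ ≫ pr i = pr (σ.symm i)) (hpb : ∀ σ, p σ ≫ base = base)
    {l : ℕ} (s : Fin l → Γ(S, O)) (f : Fin l → Γ(P, boxOpen base pr c U O))
    (hf : ∀ j σ (hσ : σ ∈ colStab c),
      ((p σ).appLE _ _ (boxOpen_stable base pr c U O σ hσ (p σ) (hp σ) (hpb σ))).hom (f j) = f j)
    (hsum : ∑ j, (base.appLE O _ (boxOpen_le_base base pr c U O)).hom (s j) * f j = 0) :
    ∃ (k : ℕ) (t : Fin l → Fin k → Γ(S, O)) (β : Fin k → Γ(P, boxOpen base pr c U O)),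
      (∀ m σ (hσ : σ ∈ colStab c),
        ((p σ).appLE _ _ (boxOpen_stable base pr c U O σ hσ (p σ) (hp σ) (hpb σ))).hom (β m) = β m) ∧
      (∀ j, f j = ∑ m, (base.appLE O _ (boxOpen_le_base base pr c U O)).hom (t j m) * β m) ∧
      ∀ m, ∑ j, s j * t j m = 0 := by
  classical
  letI algU : ∀ x, Algebra Γ(S, O) Γ(Z, U x) := fun x => (b.appLE O (U x) (hle x)).hom.toAlgebra
  let W := boxOpen base pr c U O
  letI algW : Algebra Γ(S, O) Γ(P, W) := (base.appLE O _ (boxOpen_le_base base pr c U O)).hom.toAlgebra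
  obtain ⟨π, hblock, hπ⟩ := isBlock_boxOpen (c := c) hP hO hU hle
  haveI hfl : ∀ x, Module.Flat Γ(S, O) Γ(Z, U x) := fun x => b.flat_appLE hO (hU x) (hle x)
  haveI : Module.Flat Γ(S, O) (∀ x, Γ(Z, U x)) := by
    haveI := Fintype.ofFinite I
    exact Module.Flat.of_linearEquiv (DirectSum.linearEquivFunOnFintype Γ(S, O) I fun x => Γ(Z, U x)).symm
  let a : Equiv.Perm (Fin d) → (Γ(P, W) →ₐ[Γ(S, O)] Γ(P, W)) := fun σ =>
    if hσ : σ⁻¹ ∈ colStab c then
      { ((p σ⁻¹).appLE W W (boxOpen_stable base pr c U O _ hσ (p σ⁻¹) (hp _) (hpb _))).hom with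
        commutes' := fun x => by
          change ((p σ⁻¹).appLE W W _).hom ((base.appLE O W _).hom x) = (base.appLE O W _).hom x
          rw [← CommRingCat.comp_apply, Scheme.Hom.appLE_comp_appLE]
          simp only [hpb] }
    else AlgHom.id _ _
  have ha : ∀ σ ∈ colStab c, ∀ i r, a σ (π i r) = π (σ i) r := by
    intro σ hσ i r
    have hσ' : σ⁻¹ ∈ colStab c := inv_mem hσ
    simp only [a, dif_pos hσ']
    rw [hπ, hπ]
    change ((p σ⁻¹).appLE W W _).hom (blockPi i r) = blockPi (σ i) r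
    unfold blockPi
    rw [← CommRingCat.comp_apply, Scheme.Hom.appLE_comp_appLE]
    simp only [hp, Equiv.Perm.inv_def, Equiv.symm_symm]
    have key : ∀ (x y : I) (hxy : x = y) (e1 : W ≤ pr (σ i) ⁻¹ᵁ U x) (e2 : W ≤ pr (σ i) ⁻¹ᵁ U y),
        ((pr (σ i)).appLE (U x) W e1).hom (r x) = ((pr (σ i)).appLE (U y) W e2).hom (r y) := by
      rintro x _ rfl e1 e2; rfl
    exact key _ _ (hσ i).symm _ _
  let N : Submodule Γ(S, O) Γ(P, W) :=
    ⨅ σ : colStab c, LinearMap.eqLocus (a σ).toLinearMap LinearMap.id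
  have hN : ∀ g, g ∈ N ↔ ∀ σ ∈ colStab c, a σ g = g := by
    intro g; simp [N, LinearMap.mem_eqLocus]
  have hfix : ∀ g : Γ(P, W), (∀ σ (hσ : σ ∈ colStab c),
      ((p σ).appLE _ _ (boxOpen_stable base pr c U O σ hσ (p σ) (hp σ) (hpb σ))).hom g = g) ↔ g ∈ N := by
    intro g
    rw [hN]
    refine ⟨fun h σ hσ => ?_, fun h σ hσ => ?_⟩
    · simp only [a, dif_pos (inv_mem hσ)]
      exact h σ⁻¹ (inv_mem hσ)
    · obtain ⟨τ, rfl⟩ : ∃ τ, σ = τ⁻¹ := ⟨σ⁻¹, (inv_inv σ).symm⟩
      have := h τ (by simpa using inv_mem hσ)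
      simp only [a, dif_pos hσ] at this
      exact this
  haveI := hblock.flat_invariants a ha N hN
  have htriv := Module.Flat.isTrivialRelation_of_sum_smul_eq_zero
    (f := s) (x := fun j => (⟨f j, (hfix _).mp (hf j)⟩ : N)) (Subtype.ext (by
      simpa [Algebra.smul_def, RingHom.algebraMap_toAlgebra] using hsum))
  obtain ⟨k, t, β, h1, h2⟩ := htriv
  refine ⟨k, t, fun m => β m, fun m => (hfix _).mpr (β m).2, fun j => ?_, h2⟩
  have := congrArg Subtype.val (h1 j)
  simpa [Algebra.smul_def, RingHom.algebraMap_toAlgebra] using this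

end Groth.Agent.SymCmp
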