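import Groth.Agent.SGA1Quot.Exists
import Mathlib.AlgebraicGeometry.Morphisms.QuasiCompact

/-!
# Invariant sections on stable affine opens

For a finite group acting on a scheme and a stable affine open `A`: invariant basic open neighbourhoods,
and invariant sections on an invariant basic open come from invariant sections of `A`.
-/

set_option linter.style.haveILetI false

universe u

open CategoryTheory AlgebraicGeometry TopologicalSpace

namespace Groth.Agent.SymCmp

variable {P : Scheme.{u}} {G : Type*} [Group G] (ρ : G →* Aut P)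

/-- `s` is invariant under the group. -/
def InvOn {A : P.Opens} (hA : ∀ g, A ≤ (ρ g).hom ⁻¹ᵁ A) (s : Γ(P, A)) : Prop :=
  ∀ g, ((ρ g).hom.appLE A A (hA g)).hom s = s

variable {ρ}

theorem act_res {A D : P.Opens} (hA : ∀ g, A ≤ (ρ g).hom ⁻¹ᵁ A) (hD : ∀ g, D ≤ (ρ g).hom ⁻¹ᵁ D)
    (e : D ≤ A) (g : G) (s : Γ(P, A)) :
    ((ρ g).hom.appLE D D (hD g)).hom ((P.presheaf.map (homOfLE e).op).hom s) =
      (P.presheaf.map (homOfLE e).op).hom (((ρ g).hom.appLE A A (hA g)).hom s) := by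
  rw [← CommRingCat.comp_apply, ← CommRingCat.comp_apply, Scheme.Hom.map_appLE,
    Scheme.Hom.appLE_map]

theorem InvOn.map {A D : P.Opens} {hA : ∀ g, A ≤ (ρ g).hom ⁻¹ᵁ A}
    {hD : ∀ g, D ≤ (ρ g).hom ⁻¹ᵁ D} (e : D ≤ A) {s : Γ(P, A)} (h : InvOn ρ hA s) :
    InvOn ρ hD ((P.presheaf.map (homOfLE e).op).hom s) := fun g => by
  rw [act_res hA hD e, h g]

theorem InvOn.basicOpen_stable {A : P.Opens} {hA : ∀ g, A ≤ (ρ g).hom ⁻¹ᵁ A} {s : Γ(P, A)}
    (h : InvOn ρ hA s) (g : G) : P.basicOpen s ≤ (ρ g).hom ⁻¹ᵁ P.basicOpen s := by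
  conv_lhs => rw [← h g]
  rw [Scheme.basicOpen_appLE]
  exact inf_le_right

theorem act_mul_apply {A : P.Opens} (hA : ∀ g, A ≤ (ρ g).hom ⁻¹ᵁ A) (g k : G) (s : Γ(P, A)) :
    ((ρ k).hom.appLE A A (hA k)).hom (((ρ g).hom.appLE A A (hA g)).hom s) =
      ((ρ (g * k)).hom.appLE A A (hA (g * k))).hom s := by
  rw [← CommRingCat.comp_apply, Scheme.Hom.appLE_comp_appLE]
  have e : (ρ (g * k)).hom = (ρ k).hom ≫ (ρ g).hom := by rw [map_mul]; rfl
  simp only [e]

/-- Invariant basic open neighbourhoods. -/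
theorem exists_inv_basicOpen [Finite G] {A O : P.Opens} (hA : IsAffineOpen A)
    (hAs : ∀ g, A ≤ (ρ g).hom ⁻¹ᵁ A) (hOs : ∀ g, O ≤ (ρ g).hom ⁻¹ᵁ O) {z : P} (hzA : z ∈ A)
    (hzO : z ∈ O) :
    ∃ h : Γ(P, A), InvOn ρ hAs h ∧ z ∈ P.basicOpen h ∧ P.basicOpen h ≤ O := by
  classical
  cases nonempty_fintype G
  obtain ⟨f, hfO, hfz⟩ := SGA1Quot.exists_basicOpen_finite hA O (fun g : G => (ρ g).hom z)
    fun g => ⟨hAs g hzA, hOs g hzO⟩
  refine ⟨∏ g, ((ρ g).hom.appLE A A (hAs g)).hom f, fun k => ?_, ?_, ?_⟩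
  · rw [map_prod]
    exact Fintype.prod_equiv (Equiv.mulRight k) _ _ fun g => act_mul_apply hAs g k f
  · have : ∀ s : Finset G, z ∈ P.basicOpen (∏ g ∈ s, ((ρ g).hom.appLE A A (hAs g)).hom f) := by
      intro s
      induction s using Finset.induction with
      | empty => simpa using hzA
      | insert a s ha ih =>
        rw [Finset.prod_insert ha, Scheme.basicOpen_mul, Scheme.basicOpen_appLE]
        exact ⟨⟨hzA, hfz a⟩, ih⟩
    exact this _
  · rw [← Finset.mul_prod_erase _ _ (Finset.mem_univ 1), Scheme.basicOpen_mul]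
    refine inf_le_left.trans ?_
    rw [Scheme.basicOpen_appLE]
    intro x hx
    have h1 : (ρ 1).hom = 𝟙 P := by rw [map_one]; rfl
    have := hx.2
    rw [h1] at this
    exact hfO this

/-- Equality on a basic open is equality after multiplication by a power. -/
theorem exists_pow_mul_eq {A D : P.Opens} (hA : IsAffineOpen A) (h : Γ(P, A))
    (hD : D = P.basicOpen h) (e : D ≤ A) {x y : Γ(P, A)}
    (hxy : (P.presheaf.map (homOfLE e).op).hom x = (P.presheaf.map (homOfLE e).op).hom y) :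
    ∃ n : ℕ, h ^ n * x = h ^ n * y := by
  subst hD
  obtain ⟨n, hn⟩ := exists_pow_mul_eq_zero_of_res_basicOpen_eq_zero_of_isAffineOpen P hA (x - y) h
    (by rw [TopCat.Presheaf.restrictOpen, TopCat.Presheaf.restrict]
        exact (map_sub (P.presheaf.map (homOfLE e).op).hom x y).trans (sub_eq_zero.mpr hxy))
  exact ⟨n, by rwa [mul_sub, sub_eq_zero] at hn⟩

/-- An invariant section on an invariant basic open is an invariant section of `A` divided by a power. -/
theorem InvOn.exists_lift [Finite G] {A : P.Opens} (hA : IsAffineOpen A)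
    {hAs : ∀ g, A ≤ (ρ g).hom ⁻¹ᵁ A} {h : Γ(P, A)} (hh : InvOn ρ hAs h) {D : P.Opens}
    (hD : D = P.basicOpen h) (e : D ≤ A) {hDs : ∀ g, D ≤ (ρ g).hom ⁻¹ᵁ D} {s : Γ(P, D)}
    (hs : InvOn ρ hDs s) :
    ∃ (n : ℕ) (t : Γ(P, A)), InvOn ρ hAs t ∧ (P.presheaf.map (homOfLE e).op).hom t =
      (P.presheaf.map (homOfLE e).op).hom h ^ n * s := by
  classical
  cases nonempty_fintype G
  subst hD
  letI : Algebra Γ(P, A) Γ(P, P.basicOpen h) := (P.presheaf.map (homOfLE e).op).hom.toAlgebra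
  haveI : IsLocalization.Away h Γ(P, P.basicOpen h) := hA.isLocalization_basicOpen h
  obtain ⟨⟨t, ⟨_, n, rfl⟩⟩, ht⟩ := IsLocalization.surj (Submonoid.powers h) s
  simp only [RingHom.algebraMap_toAlgebra, map_pow] at ht
  have key : ∀ g, ∃ m : ℕ, h ^ m * ((ρ g).hom.appLE A A (hAs g)).hom t = h ^ m * t := fun g =>
    exists_pow_mul_eq hA h rfl e (by
      rw [← act_res hAs hDs e g, ← ht, map_mul, hs g, map_pow, hh.map e g])
  choose m hm using key
  let M := Finset.univ.sup m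
  refine ⟨n + M, h ^ M * t, fun g => ?_, ?_⟩
  · have hle : m g ≤ M := Finset.le_sup (Finset.mem_univ g)
    rw [map_mul, map_pow, hh g, ← Nat.sub_add_cancel hle, pow_add, mul_assoc, hm g, ← mul_assoc]
  · rw [map_mul, map_pow, ← ht, pow_add]
    ring

end Groth.Agent.SymCmp
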