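import Groth.Agent.SymCmp.Block
import Groth.Agent.SymCmp.LocInv
import Groth.Agent.SGA1Quot.Basic

/-!
# Invariant sections on a flat base change of a fibre power come from the symmetric product
-/

set_option linter.style.haveILetI false

universe u

open CategoryTheory CategoryTheory.Limits AlgebraicGeometry TopologicalSpace SymProd

namespace Groth.Agent.SymCmp

/-- Pull-back of invariant sections along an equivariant morphism. -/
theorem InvOn.pull {P Q : Scheme.{u}} {G : Type*} [Group G] {ρ : G →* Aut P} {ρ' : G →* Aut Q}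
    (Φ : Q ⟶ P) (hΦ : ∀ g, (ρ' g).hom ≫ Φ = Φ ≫ (ρ g).hom) {A : P.Opens} {A' : Q.Opens}
    (e : A' ≤ Φ ⁻¹ᵁ A) {hA : ∀ g, A ≤ (ρ g).hom ⁻¹ᵁ A} {hA' : ∀ g, A' ≤ (ρ' g).hom ⁻¹ᵁ A'}
    {s : Γ(P, A)} (hs : InvOn ρ hA s) : InvOn ρ' hA' ((Φ.appLE A A' e).hom s) := fun g => by
  conv_rhs => rw [← hs g]
  rw [← CommRingCat.comp_apply, ← CommRingCat.comp_apply, Scheme.Hom.appLE_comp_appLE,
    Scheme.Hom.appLE_comp_appLE]
  simp only [hΦ]

/-- A morphism of groups pulls back invariance. -/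
theorem InvOn.comp {P : Scheme.{u}} {G K : Type*} [Group G] [Group K] {ρ : G →* Aut P}
    (ι : K →* G) {A : P.Opens} {hA : ∀ g, A ≤ (ρ g).hom ⁻¹ᵁ A} {s : Γ(P, A)} (hs : InvOn ρ hA s) :
    InvOn (ρ.comp ι) (fun k => hA (ι k)) s := fun k => hs (ι k)

/-- A point determines and is determined by the basic opens containing it. -/
theorem eq_of_forall_mem_basicOpen {P : Scheme.{u}} {W : P.Opens} (hW : IsAffineOpen W) {z z' : P}
    (hz : z ∈ W) (hz' : z' ∈ W) (h : ∀ x : Γ(P, W), z ∈ P.basicOpen x ↔ z' ∈ P.basicOpen x) :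
    z = z' := by
  obtain ⟨p, rfl⟩ := hW.range_fromSpec.ge hz
  obtain ⟨p', rfl⟩ := hW.range_fromSpec.ge hz'
  have key : ∀ (r : Spec Γ(P, W)) (x : Γ(P, W)), hW.fromSpec r ∈ P.basicOpen x ↔ x ∉ r.asIdeal :=
    fun r x => by
      change r ∈ hW.fromSpec ⁻¹ᵁ P.basicOpen x ↔ _
      rw [hW.fromSpec_preimage_basicOpen]; rfl
  have : p = p' := PrimeSpectrum.ext <| Ideal.ext fun x => by
    have := h x
    rw [key, key] at this
    exact not_iff_not.mp this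
  rw [this]

/-- Data for comparing the symmetric product with a base change or closed subscheme. -/
structure Setup {X S S' P' T Y Z' : Scheme.{u}} {d : ℕ} (f : X ⟶ S) (gS : S' ⟶ S)
    (q : SymProd.fibPow f d ⟶ Y) (g : Y ⟶ S)
    (Φ : P' ⟶ SymProd.fibPow f d) (π₂ : P' ⟶ S') (u : P' ⟶ T) (pT : T ⟶ Y) (pS : T ⟶ S')
    (ρ' : ULift.{u} (Equiv.Perm (Fin d)) →* Aut P')
    (a : Z' ⟶ X) (b' : Z' ⟶ S') (pr' : Fin d → (P' ⟶ Z')) : Prop where
  isSym : IsSymProd f d q g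
  actΦ : ∀ σ, (ρ' σ).hom ≫ Φ = Φ ≫ permHom f d σ.down
  actS : ∀ σ, (ρ' σ).hom ≫ π₂ = π₂
  actZ : ∀ σ j, (ρ' σ).hom ≫ pr' j = pr' (σ.down.symm j)
  u_inv : ∀ σ, (ρ' σ).hom ≫ u = u
  uT : u ≫ pT = Φ ≫ q
  uS : u ≫ pS = π₂
  fib : IsFibPow b' π₂ pr'
  coord : ∀ j, pr' j ≫ a = Φ ≫ WidePullback.π (fun _ : Fin d => f) j
  hover : Φ ≫ WidePullback.base (fun _ : Fin d => f) = π₂ ≫ gS
  flat : Flat b'
  chart : ∀ (S0 : S.Opens) (S0' : S'.Opens), IsAffineOpen S0 → IsAffineOpen S0' → S0' ≤ gS ⁻¹ᵁ S0 →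
    ∀ U : X.Opens, IsAffineOpen U → U ≤ f ⁻¹ᵁ S0 →
      IsAffineOpen (a ⁻¹ᵁ U ⊓ b' ⁻¹ᵁ S0') ∧ ∀ r : Γ(Z', a ⁻¹ᵁ U ⊓ b' ⁻¹ᵁ S0'),
        r ∈ AddSubmonoid.closure {t | ∃ (s : Γ(S', S0')) (x : Γ(X, U)),
          (b'.appLE S0' _ inf_le_right).hom s * (a.appLE U _ inf_le_left).hom x = t}

section

variable {X S S' P' T Y Z' : Scheme.{u}} {d : ℕ} {f : X ⟶ S} {gS : S' ⟶ S}
    {q : SymProd.fibPow f d ⟶ Y} {g : Y ⟶ S}
    {Φ : P' ⟶ SymProd.fibPow f d} {π₂ : P' ⟶ S'} {u : P' ⟶ T} {pT : T ⟶ Y} {pS : T ⟶ S'}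
    {ρ' : ULift.{u} (Equiv.Perm (Fin d)) →* Aut P'}
    {a : Z' ⟶ X} {b' : Z' ⟶ S'} {pr' : Fin d → (P' ⟶ Z')}

set_option maxHeartbeats 1000000 in
/-- Every invariant section over the preimage of `V × S0'` comes from `T`. -/
theorem Setup.mem_range (D : Setup f gS q g Φ π₂ u pT pS ρ' a b' pr') {V : Y.Opens}
    (hV : IsAffineOpen V) {S0 : S.Opens} (hS0 : IsAffineOpen S0) (hVS : V ≤ g ⁻¹ᵁ S0)
    {S0' : S'.Opens} (hS0' : IsAffineOpen S0') (hle : S0' ≤ gS ⁻¹ᵁ S0)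
    {V' : T.Opens} (hV' : V' = pT ⁻¹ᵁ V ⊓ pS ⁻¹ᵁ S0') :
    IsAffineOpen (u ⁻¹ᵁ V') ∧ ∀ c : Γ(P', u ⁻¹ᵁ V'),
      InvOn ρ' (fun σ => SGA1.preimage_le_of_inv ρ' u D.u_inv σ V') c →
      c ∈ Set.range (u.app V').hom := by
  classical
  let P := SymProd.fibPow f d
  let base : P ⟶ S := WidePullback.base _
  let pr : Fin d → (P ⟶ X) := fun j => WidePullback.π _ j
  haveI := D.isSym.isQuot.affine
  haveI := D.flat
  let W : P.Opens := q ⁻¹ᵁ V
  let W' : P'.Opens := u ⁻¹ᵁ V'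
  have hW : IsAffineOpen W := hV.preimage q
  have hW'eq : W' = Φ ⁻¹ᵁ W ⊓ π₂ ⁻¹ᵁ S0' := by
    simp only [W', W, hV', Scheme.Hom.preimage_inf, ← Scheme.Hom.comp_preimage, D.uT, D.uS]
  have hW'W : W' ≤ Φ ⁻¹ᵁ W := hW'eq.le.trans inf_le_left
  have hW'S : W' ≤ π₂ ⁻¹ᵁ S0' := hW'eq.le.trans inf_le_right
  let ρ := permActU f d
  have hρΦ : ∀ σ, (ρ' σ).hom ≫ Φ = Φ ≫ (ρ σ).hom := fun σ => by rw [D.actΦ]; rfl
  have hWs : ∀ σ, W ≤ (ρ σ).hom ⁻¹ᵁ W := fun σ =>
    SGA1.preimage_le_of_inv ρ q D.isSym.isQuot.inv σ V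
  have hW's : ∀ σ, W' ≤ (ρ' σ).hom ⁻¹ᵁ W' := fun σ => SGA1.preimage_le_of_inv ρ' u D.u_inv σ V'
  letI actB : MulSemiringAction (ULift.{u} (Equiv.Perm (Fin d))) Γ(P, W) :=
    SGA1Quot.mulSemiringAction D.isSym.isQuot.inv V
  letI actC : MulSemiringAction (ULift.{u} (Equiv.Perm (Fin d))) Γ(P', W') :=
    SGA1Quot.mulSemiringAction D.u_inv V'
  let φ : Γ(P, W) →+* Γ(P', W') := (Φ.appLE W W' hW'W).hom
  let K : Set Γ(P', W') := Set.range (π₂.appLE S0' W' hW'S).hom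
  have hφ : ∀ (σ : ULift.{u} (Equiv.Perm (Fin d))) (x : Γ(P, W)), φ (σ • x) = σ • φ x := by
    intro σ x
    change (Φ.appLE W W' hW'W).hom (((ρ σ⁻¹).hom.appLE W W (hWs _)).hom x) =
      ((ρ' σ⁻¹).hom.appLE W' W' (hW's _)).hom ((Φ.appLE W W' hW'W).hom x)
    rw [← CommRingCat.comp_apply, ← CommRingCat.comp_apply, Scheme.Hom.appLE_comp_appLE,
      Scheme.Hom.appLE_comp_appLE]
    simp only [hρΦ]
  have hK : ∀ x ∈ K, ∀ σ : ULift.{u} (Equiv.Perm (Fin d)), σ • x = x := by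
    rintro _ ⟨s, rfl⟩ σ
    change ((ρ' σ⁻¹).hom.appLE W' W' (hW's _)).hom ((π₂.appLE S0' W' hW'S).hom s) = _
    rw [← CommRingCat.comp_apply, Scheme.Hom.appLE_comp_appLE]
    simp only [D.actS]
  have key : ∀ p : PrimeSpectrum Γ(P, W), ∃ (H : Subgroup (ULift.{u} (Equiv.Perm (Fin d))))
      (h : Γ(P, W)), StabLE p.asIdeal H ∧ h ∈ fixSubring H Γ(P, W) ∧ h ∉ p.asIdeal ∧
      IsAffineOpen (P'.basicOpen (φ h)) ∧ ∀ c : Γ(P', W'), InvOn ρ' hW's c →
        ∃ n : ℕ, ∃ y ∈ invSpan φ K H,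
          (P'.presheaf.map (homOfLE (P'.basicOpen_le (φ h))).op).hom (φ h ^ n * c) =
            (P'.presheaf.map (homOfLE (P'.basicOpen_le (φ h))).op).hom y := by
    intro p
    let z : P := hW.fromSpec p
    have hzW : z ∈ W := hW.range_fromSpec.le ⟨_, rfl⟩
    have hmem : ∀ x : Γ(P, W), z ∈ P.basicOpen x ↔ x ∉ p.asIdeal := fun x => by
      change p ∈ hW.fromSpec ⁻¹ᵁ P.basicOpen x ↔ _
      rw [hW.fromSpec_preimage_basicOpen]; rfl
    let I : Type u := Set.range fun j => pr j z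
    let cc : Fin d → I := fun j => ⟨pr j z, j, rfl⟩
    have hzS : base z ∈ S0 := by
      show (WidePullback.base (fun _ : Fin d => f)) z ∈ S0
      rw [← D.isSym.over, Scheme.Hom.comp_apply]
      exact hVS hzW
    have hU : ∀ x : I, ∃ U : X.Opens, IsAffineOpen U ∧ (x : X) ∈ U ∧ U ≤ f ⁻¹ᵁ S0 := by
      rintro ⟨_, j, rfl⟩
      obtain ⟨U, hU, hxU, hUle⟩ := exists_isAffineOpen_mem_and_subset (x := pr j z) (U := f ⁻¹ᵁ S0)
        (by
          change f (pr j z) ∈ S0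
          rw [← Scheme.Hom.comp_apply, WidePullback.π_arrow]
          exact hzS)
      exact ⟨U, hU, hxU, hUle⟩
    choose U hUa hUx hUS using hU
    let H : Subgroup (ULift.{u} (Equiv.Perm (Fin d))) :=
      (colStab cc).comap MulEquiv.ulift.toMonoidHom
    have hst : StabLE p.asIdeal H := by
      intro σ hσ
      have hfix : (ρ σ⁻¹).hom z = z := by
        refine eq_of_forall_mem_basicOpen hW (hWs _ hzW) hzW fun x => ?_
        rw [hmem, ← hσ x, ← hmem]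
        change _ ↔ z ∈ P.basicOpen (((ρ σ⁻¹).hom.appLE W W (hWs _)).hom x)
        rw [Scheme.basicOpen_appLE]
        exact ⟨fun h => ⟨hzW, h⟩, fun h => h.2⟩
      intro j
      refine Subtype.ext ?_
      change pr (σ.down j) z = pr j z
      conv_rhs => rw [← hfix]
      have e : (ρ σ⁻¹).hom ≫ pr j = pr (σ.down j) := permHom_π f d _ j
      rw [← e]
      rfl
    let ρH := ρ.comp H.subtype
    let ρH' := ρ'.comp H.subtype
    have hρH : ∀ k : H, (ρH' k).hom ≫ Φ = Φ ≫ (ρH k).hom := fun k => hρΦ k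
    let W0 : P.Opens := boxOpen base pr cc U S0
    have hP : IsFibPow f base pr := isFibPow_fibPow f d
    have hW0 : IsAffineOpen W0 := hP.isAffineOpen_boxOpen hS0 hUa hUS
    have hW0s : ∀ k : H, W0 ≤ (ρH k).hom ⁻¹ᵁ W0 := fun k =>
      boxOpen_stable base pr cc U S0 k.1.down k.2 _ (fun i => permHom_π f d _ i) (permHom_base f d _)
    have hzW0 : z ∈ W0 := (mem_boxOpen _ _ _ _ _).mpr ⟨hzS, fun j => hUx (cc j)⟩
    have hWsH : ∀ k : H, W ≤ (ρH k).hom ⁻¹ᵁ W := fun k => hWs k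
    obtain ⟨h1, hh1, hz1, hle1⟩ := exists_inv_basicOpen hW hWsH hW0s hzW hzW0
    obtain ⟨h2, hh2, hz2, hle2⟩ := exists_inv_basicOpen hW0 hW0s hh1.basicOpen_stable hzW0 hz1
    obtain ⟨h3, hh3, hz3, hle3⟩ := exists_inv_basicOpen hW hWsH hh2.basicOpen_stable hzW hz2
    have hle2W : P.basicOpen h2 ≤ W := hle2.trans (P.basicOpen_le h1)
    let U' : I → Z'.Opens := fun x => a ⁻¹ᵁ U x ⊓ b' ⁻¹ᵁ S0'
    have hU' : ∀ x, IsAffineOpen (U' x) := fun x =>
      (D.chart S0 S0' hS0 hS0' hle (U x) (hUa x) (hUS x)).1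
    let W0' : P'.Opens := boxOpen π₂ pr' cc U' S0'
    have hW0' : IsAffineOpen W0' := D.fib.isAffineOpen_boxOpen hS0' hU' fun x => inf_le_right
    have hW0'eq : W0' = Φ ⁻¹ᵁ W0 ⊓ π₂ ⁻¹ᵁ S0' := by
      refine Opens.ext (Set.ext fun w => ?_)
      simp only [SetLike.mem_coe]
      change w ∈ boxOpen π₂ pr' cc U' S0' ↔ Φ w ∈ boxOpen base pr cc U S0 ∧ π₂ w ∈ S0'
      rw [mem_boxOpen, mem_boxOpen]
      have e1 : ∀ j, pr' j w ∈ a ⁻¹ᵁ U (cc j) ↔ pr j (Φ w) ∈ U (cc j) := fun j => by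
        change a (pr' j w) ∈ U (cc j) ↔ _
        rw [← Scheme.Hom.comp_apply, D.coord, Scheme.Hom.comp_apply]
      constructor
      · rintro ⟨hs, hj⟩
        refine ⟨⟨?_, fun j => (e1 j).mp (hj j).1⟩, hs⟩
        show (WidePullback.base (fun _ : Fin d => f)) (Φ w) ∈ S0
        rw [← Scheme.Hom.comp_apply, D.hover, Scheme.Hom.comp_apply]
        exact hle hs
      · rintro ⟨⟨-, hj⟩, hs⟩
        refine ⟨hs, fun j => ⟨(e1 j).mpr (hj j), ?_⟩⟩
        change b' (pr' j w) ∈ S0'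
        rw [← Scheme.Hom.comp_apply, D.fib.w]
        exact hs
    have hW0'W0 : W0' ≤ Φ ⁻¹ᵁ W0 := hW0'eq.le.trans inf_le_left
    have hW0's : ∀ k : H, W0' ≤ (ρH' k).hom ⁻¹ᵁ W0' := fun k =>
      boxOpen_stable π₂ pr' cc U' S0' k.1.down k.2 _ (D.actZ k.1) (D.actS k.1)
    let h2' : Γ(P', W0') := (Φ.appLE W0 W0' hW0'W0).hom h2
    have hh2' : InvOn ρH' hW0's h2' := hh2.pull Φ hρH _
    let D2 : P'.Opens := P'.basicOpen h2'
    have hD2 : D2 = W0' ⊓ Φ ⁻¹ᵁ P.basicOpen h2 := Scheme.basicOpen_appLE Φ _ _ _ _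
    have hD2W' : D2 ≤ W' := by
      rw [hD2, hW'eq]
      exact fun w hw => ⟨hle2W hw.2, (hW0'eq.le hw.1).2⟩
    have hW'sH : ∀ k : H, W' ≤ (ρH' k).hom ⁻¹ᵁ W' := fun k => hW's k
    let D3 : P'.Opens := P'.basicOpen (φ h3)
    have hD3 : D3 = W' ⊓ Φ ⁻¹ᵁ P.basicOpen h3 := Scheme.basicOpen_appLE Φ _ _ _ _
    have hD3D2 : D3 ≤ D2 := by
      rw [hD3, hD2]
      refine fun w hw => ⟨hW0'eq.ge ⟨P.basicOpen_le h2 (hle3 hw.2), hW'S hw.1⟩, hle3 hw.2⟩
    have hD3aff : IsAffineOpen D3 := by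
      have e : D3 = P'.basicOpen ((P'.presheaf.map (homOfLE hD2W').op).hom (φ h3)) := by
        rw [Scheme.basicOpen_res]; exact (inf_eq_right.mpr hD3D2).symm
      rw [e]
      exact (hW0'.basicOpen h2').basicOpen _
    refine ⟨H, h3, hst, fun σ hσ => hh3 ⟨σ⁻¹, H.inv_mem hσ⟩, (hmem h3).mp hz3, hD3aff,
      fun c hc => ?_⟩
    have hcH : InvOn ρH' hW'sH c := fun k => hc k
    have hD2s : ∀ k : H, D2 ≤ (ρH' k).hom ⁻¹ᵁ D2 := hh2'.basicOpen_stable
    obtain ⟨n, t, ht, htc⟩ := hh2'.exists_lift hW0' rfl (P'.basicOpen_le h2')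
      (hDs := hD2s) (hcH.map (hD := hD2s) hD2W')
    let res3 : Γ(P', W') →+* Γ(P', D3) :=
      (P'.presheaf.map (homOfLE (P'.basicOpen_le (φ h3))).op).hom
    let res0 : Γ(P', W0') →+* Γ(P', D3) :=
      (P'.presheaf.map (homOfLE (hD3D2.trans (P'.basicOpen_le h2'))).op).hom
    let M : AddSubmonoid Γ(P', D3) :=
      { carrier := {x | ∃ m : ℕ, ∃ y ∈ invSpan φ K H, res3 (φ h3) ^ m * x = res3 y}
        zero_mem' := ⟨0, 0, zero_mem _, by simp⟩
        add_mem' := by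
          rintro x x' ⟨m, y, hy, he⟩ ⟨m', y', hy', he'⟩
          have hfix : h3 ∈ fixSubring H Γ(P, W) := fun σ hσ => hh3 ⟨σ⁻¹, H.inv_mem hσ⟩
          refine ⟨m + m', φ (h3 ^ m') * y + φ (h3 ^ m) * y',
            add_mem (invSpan_mul_mem φ K hy (pow_mem hfix _))
              (invSpan_mul_mem φ K hy' (pow_mem hfix _)), ?_⟩
          simp only [map_add, map_mul, map_pow, ← he, ← he']
          ring }
    suffices hM : res3 c ∈ M by
      obtain ⟨m, y, hy, he⟩ := hM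
      exact ⟨m, y, hy, by rw [map_mul, map_pow]; exact he⟩
    have hle32 : P.basicOpen h3 ≤ P.basicOpen h2 := hle3
    have hle30 : P.basicOpen h3 ≤ W0 := hle3.trans (P.basicOpen_le h2)
    have hunit : IsUnit ((P.presheaf.map (homOfLE hle30).op).hom h2) := by
      have e : P.presheaf.map (homOfLE hle30).op =
          P.presheaf.map (homOfLE (P.basicOpen_le h2)).op ≫ P.presheaf.map (homOfLE hle32).op := by
        rw [← Functor.map_comp]; rfl
      rw [e, CommRingCat.comp_apply]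
      exact (P.toRingedSpace.isUnit_res_basicOpen h2).map _
    obtain ⟨v, hv⟩ := hunit.exists_left_inv
    have hD3sP : ∀ k : H, P.basicOpen h3 ≤ (ρH k).hom ⁻¹ᵁ P.basicOpen h3 := hh3.basicOpen_stable
    have hvinv : InvOn ρH hD3sP v := fun k => by
      refine hunit.mul_left_inj.mp ?_
      conv_lhs => arg 2; rw [← hh2.map (hD := hD3sP) hle30 k]
      rw [← map_mul, hv, map_one]
    have hD3P : D3 ≤ Φ ⁻¹ᵁ P.basicOpen h3 := hD3.le.trans inf_le_right
    let ψ : Γ(P, P.basicOpen h3) →+* Γ(P', D3) := (Φ.appLE _ D3 hD3P).hom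
    have hres0 : ∀ x, res0 ((Φ.appLE W0 W0' hW0'W0).hom x) =
        ψ ((P.presheaf.map (homOfLE hle30).op).hom x) := fun x => by
      simp only [res0, ψ, ← CommRingCat.comp_apply, Scheme.Hom.appLE_map, Scheme.Hom.map_appLE]
    have hres3 : ∀ x, res3 (φ x) =
        ψ ((P.presheaf.map (homOfLE (P.basicOpen_le h3)).op).hom x) := fun x => by
      simp only [res3, φ, ψ, ← CommRingCat.comp_apply, Scheme.Hom.appLE_map, Scheme.Hom.map_appLE]
      rfl
    have hc3 : res3 c = ψ v ^ n * res0 t := by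
      have h := congrArg (P'.presheaf.map (homOfLE hD3D2).op).hom htc
      simp only [map_mul, map_pow, ← CommRingCat.comp_apply, ← Functor.map_comp, ← op_comp,
        homOfLE_comp] at h
      change res0 t = res0 h2' ^ n * res3 c at h
      rw [h, ← mul_assoc, ← mul_pow, hres0, ← map_mul, hv, map_one, one_pow, one_mul]
    rw [hc3]
    have ht' := mem_closure_worb (c := cc) (U := U') (O := S0') (fun σ => (ρ' ⟨σ⟩).hom) D.fib hS0' hU'
      (fun x => inf_le_right) (fun σ i => D.actZ ⟨σ⟩ i) (fun σ => D.actS ⟨σ⟩)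
      (fun x => Set.range (a.appLE (U x) (U' x) inf_le_left).hom)
      (fun x r => by
        have := (D.chart S0 S0' hS0 hS0' hle (U x) (hUa x) (hUS x)).2 r
        induction this using AddSubmonoid.closure_induction with
        | mem y hy =>
          obtain ⟨s, ξ, rfl⟩ := hy
          exact AddSubmonoid.subset_closure ⟨s, _, ⟨ξ, rfl⟩, rfl⟩
        | zero => exact zero_mem _
        | add x y _ _ hx hy => exact add_mem hx hy)
      (f := t) (fun σ hσ => ht ⟨⟨σ⟩, hσ⟩)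
    clear htc hc3 ht
    induction ht' using AddSubmonoid.closure_induction with
    | zero => rw [map_zero, mul_zero]; exact zero_mem _
    | add x y _ _ hx hy => rw [map_add, mul_add]; exact add_mem hx hy
    | mem x hx =>
      obtain ⟨s, k, gg, α, hgg, rfl⟩ := hx
      choose x0 g0 hg0 hgx using hgg
      choose ξ hξ using hg0
      let gX : Fin k → ∀ x, Γ(X, U x) := fun l => Pi.single (x0 l) (ξ l)
      let b0 : Γ(P, W0) := worb (blockPi (base := base) (pr := pr) (c := cc) (U := U) (O := S0)) gX α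
      have hb0 : InvOn ρH hW0s b0 := fun k' => by
        refine worb_invariant _ gX α k'.1.down⁻¹ ((ρH k').hom.appLE W0 W0 (hW0s k')).hom fun i r => ?_
        unfold blockPi
        rw [← CommRingCat.comp_apply, Scheme.Hom.appLE_comp_appLE]
        have e0 : (ρH k').hom ≫ pr i = pr (k'.1.down⁻¹ i) := permHom_π f d _ i
        simp only [e0]
        have hcc : cc (k'.1.down⁻¹ i) = cc i := ((colStab cc).inv_mem k'.2) i
        have key : ∀ (x y : I) (hxy : x = y) (e1 : W0 ≤ pr (k'.1.down⁻¹ i) ⁻¹ᵁ U x)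
            (e2 : W0 ≤ pr (k'.1.down⁻¹ i) ⁻¹ᵁ U y),
            ((pr (k'.1.down⁻¹ i)).appLE (U x) W0 e1).hom (r x) =
              ((pr (k'.1.down⁻¹ i)).appLE (U y) W0 e2).hom (r y) := by
          rintro x _ rfl e1 e2; rfl
        exact key _ _ hcc.symm _ _
      have hworb : (Φ.appLE W0 W0' hW0'W0).hom b0 =
          worb (blockPi (base := π₂) (pr := pr') (c := cc) (U := U') (O := S0')) gg α := by
        simp only [b0, worb, map_sum, map_prod]
        refine Finset.sum_congr rfl fun w _ => Finset.prod_congr rfl fun j _ => ?_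
        simp only [gX, ← hgx (w j), ← hξ (w j)]
        generalize x0 (w j) = x1, ξ (w j) = r1
        by_cases hx : cc j = x1
        · subst hx
          unfold blockPi
          rw [Pi.single_eq_same, Pi.single_eq_same, ← CommRingCat.comp_apply,
            ← CommRingCat.comp_apply, Scheme.Hom.appLE_comp_appLE, Scheme.Hom.appLE_comp_appLE]
          simp only [D.coord, pr]
          rfl
        · unfold blockPi
          rw [Pi.single_eq_of_ne hx, Pi.single_eq_of_ne hx, map_zero, map_zero, map_zero]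
      rw [map_mul, ← hworb, hres0]
      have hb3 := (hb0.map (hD := hD3sP) hle30)
      let b3 : Γ(P, P.basicOpen h3) := v ^ n * (P.presheaf.map (homOfLE hle30).op).hom b0
      have hb3' : InvOn ρH hD3sP b3 := fun k' => by
        simp only [b3, map_mul, map_pow, hvinv k', hb3 k']
      obtain ⟨m, β, hβ, hβ3⟩ := hh3.exists_lift hW rfl (P.basicOpen_le h3) hb3'
      refine ⟨m, (π₂.appLE S0' W' hW'S).hom s * φ β, AddSubmonoid.subset_closure
        ⟨_, ⟨s, rfl⟩, β, fun σ hσ => hβ ⟨σ⁻¹, H.inv_mem hσ⟩, rfl⟩, ?_⟩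
      rw [map_mul, hres3 β, hβ3, map_mul, map_pow ψ, ← hres3, map_mul, map_pow ψ]
      have es : res0 ((π₂.appLE S0' W0' (boxOpen_le_base π₂ pr' cc U' S0')).hom s) =
          res3 ((π₂.appLE S0' W' hW'S).hom s) := by
        simp only [res0, res3, ← CommRingCat.comp_apply, Scheme.Hom.appLE_map]
        rfl
      rw [es]
      ring
  choose H h hst hfix hnot haff hloc using key
  have hW'aff : IsAffineOpen W' := by
    refine isAffineOpen_of_isAffineOpen_basicOpen W' (Set.range fun p => φ (h p)) ?_ ?_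
    · have : Ideal.span (Set.range h) = ⊤ := by
        by_contra hne
        obtain ⟨m, hm, hle⟩ := Ideal.exists_le_maximal _ hne
        exact hnot ⟨m, hm.isPrime⟩ (hle (Ideal.subset_span ⟨_, rfl⟩))
      rw [show (Set.range fun p => φ (h p)) = φ '' Set.range h from Set.range_comp φ h,
        ← Ideal.map_span, this, Ideal.map_top]
    · rintro _ ⟨p, rfl⟩
      exact haff p
  refine ⟨hW'aff, fun c hc => ?_⟩
  have hcG : ∀ σ : ULift.{u} (Equiv.Perm (Fin d)), σ • c = c := fun σ => hc σ⁻¹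
  have hc' : c ∈ invSpan φ K (⊤ : Subgroup (ULift.{u} (Equiv.Perm (Fin d)))) := by
    refine mem_invSpan_of_local φ K hφ hK hcG fun q0 hq0 => ?_
    obtain ⟨n, y, hy, he⟩ := hloc ⟨q0, hq0⟩ c hc
    obtain ⟨m, hm⟩ := exists_pow_mul_eq hW'aff (φ (h ⟨q0, hq0⟩)) rfl _ he
    refine ⟨H ⟨q0, hq0⟩, h ⟨q0, hq0⟩ ^ (m + n), hst ⟨q0, hq0⟩, pow_mem (hfix ⟨q0, hq0⟩) _,
      fun hmem => hnot ⟨q0, hq0⟩ (hq0.mem_of_pow_mem _ hmem), ?_⟩
    rw [map_pow, pow_add, mul_assoc, hm, ← map_pow]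
    exact invSpan_mul_mem φ K hy (pow_mem (hfix ⟨q0, hq0⟩) _)
  have hsub : invSpan φ K (⊤ : Subgroup (ULift.{u} (Equiv.Perm (Fin d)))) ≤
      (u.app V').hom.range.toAddSubgroup.toAddSubmonoid := by
    refine AddSubmonoid.closure_le.mpr ?_
    rintro _ ⟨_, ⟨s, rfl⟩, x, hx, rfl⟩
    obtain ⟨v, rfl⟩ := (D.isSym.isQuot.range_iff V x).mpr fun σ => by
      have h : ((ρ σ⁻¹⁻¹).hom.appLE W W (hWs _)).hom x = x := hx σ⁻¹ (Subgroup.mem_top _)
      simp only [inv_inv] at h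
      exact h
    refine ⟨(pS.appLE S0' V' (hV'.le.trans inf_le_right)).hom s *
      (pT.appLE V V' (hV'.le.trans inf_le_left)).hom v, ?_⟩
    simp only [map_mul, φ, Scheme.Hom.app_eq_appLE, ← CommRingCat.comp_apply,
      Scheme.Hom.appLE_comp_appLE, D.uS, D.uT]
    congr 1
    change _ = (q.appLE V (q ⁻¹ᵁ V) le_rfl ≫ Φ.appLE (q ⁻¹ᵁ V) (u ⁻¹ᵁ V') hW'W).hom v
    rw [Scheme.Hom.appLE_comp_appLE]
  exact hsub hc'

end

end Groth.Agent.SymCmp
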