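import Groth.Agent.PLaw.GammaFlat
import Groth.Agent.PLaw.Span
import Groth.Agent.PLaw.Symm
import Mathlib.GroupTheory.Coset.Basic
import Mathlib.Tactic.LinearCombination

/-!
# Invariants of a Young subgroup on a block of a tensor power

`C` is the block `⊗ᵢ R δᵢ` of the tensor power of `R` cut out by idempotents `δ i`, given through its
universal property.  If `R` is flat then the invariants of the stabiliser of `δ` in `C` are spanned by
orbit sums from any spanning set of `R`, and they form a flat module.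
-/

set_option linter.style.haveILetI false

universe u

open scoped TensorProduct

namespace Groth.Agent.SymCmp

variable {A R C : Type u} [CommRing A] [CommRing R] [Algebra A R] [CommRing C] [Algebra A C] {d : ℕ}

/-- The permutations fixing the colouring `δ`. -/
def colStab {d : ℕ} {γ : Type*} (δ : Fin d → γ) : Subgroup (Equiv.Perm (Fin d)) where
  carrier := {σ | ∀ i, δ (σ i) = δ i}
  one_mem' i := rfl
  mul_mem' {σ τ} hσ hτ i := (hσ (τ i)).trans (hτ i)
  inv_mem' {σ} hσ i := by simpa using (hσ (σ⁻¹ i)).symm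

/-- The orbit sum of the products of the images of `b`. -/
noncomputable def worb {R C : Type*} [CommRing C] (π : Fin d → R → C) {n : ℕ} (b : Fin n → R)
    (α : Fin n →₀ ℕ) : C :=
  ∑ w ∈ PLaw.words d α, ∏ i, π i (b (w i))

/-- Orbit sums are invariant under permutations compatible with `π`. -/
theorem worb_invariant {R C F : Type*} [CommRing C] [FunLike F C C] [RingHomClass F C C]
    (π : Fin d → R → C) {n : ℕ} (b : Fin n → R) (α : Fin n →₀ ℕ) (σ : Equiv.Perm (Fin d)) (a : F)
    (ha : ∀ i r, a (π i r) = π (σ i) r) : a (worb π b α) = worb π b α := by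
  classical
  simp only [worb, map_sum, map_prod, ha]
  refine Finset.sum_nbij' (fun c i => c (σ.symm i)) (fun c i => c (σ i)) ?_ ?_ ?_ ?_ ?_
  · intro c hc
    rw [PLaw.mem_words] at hc ⊢
    rw [← hc]; exact PLaw.cnt_comp c σ.symm
  · intro c hc
    rw [PLaw.mem_words] at hc ⊢
    rw [← hc]; exact PLaw.cnt_comp c σ
  · intro c _; funext i; simp
  · intro c _; funext i; simp
  · intro c _
    exact Fintype.prod_equiv σ _ _ fun i => by simp

variable {γ : Type*} (c : Fin d → γ) (δ : Fin d → R) (π : Fin d → (R →ₐ[A] C))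

/-- `C` is the block of the tensor power cut out by `δ`. -/
structure IsBlock : Prop where
  idem : ∀ i, δ i * δ i = δ i
  col : ∀ i j, c i = c j → δ i = δ j
  orth : ∀ i j, c i = c j ∨ δ i * δ j = 0
  one : ∀ i, π i (δ i) = 1
  exists_lift : ∀ (L : Type u) [CommRing L] [Algebra A L] (g : Fin d → (R →ₐ[A] L)),
    (∀ i, g i (δ i) = 1) → ∃ J : C →ₐ[A] L, ∀ i, J.comp (π i) = g i
  ext : ∀ J : C →ₐ[A] C, (∀ i, J.comp (π i) = π i) → J = AlgHom.id A C

namespace IsBlock

/-- The map from the tensor power. -/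
noncomputable def theta : (⨂[A] _ : Fin d, R) →ₐ[A] C :=
  PiTensorProduct.liftAlgHom
    ((MultilinearMap.mkPiAlgebra A (Fin d) C).compLinearMap fun i => (π i).toLinearMap)
    (by simp) (fun x y => by simp [Finset.prod_mul_distrib])

theorem theta_tprod (v : Fin d → R) : theta π (PiTensorProduct.tprod A v) = ∏ i, π i (v i) := by
  change PiTensorProduct.lift _ (PiTensorProduct.tprod A v) = _
  simp

theorem theta_single (i : Fin d) (r : R) :
    theta π (PiTensorProduct.singleAlgHom (A := fun _ : Fin d => R) i r) = π i r := by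
  classical
  simp only [PiTensorProduct.singleAlgHom_apply, MonoidHom.mulSingle_apply, theta_tprod]
  rw [Finset.prod_eq_single i (fun j _ hj => by rw [Pi.mulSingle_eq_of_ne hj, map_one])
    (fun h => absurd (Finset.mem_univ i) h), Pi.mulSingle_eq_same]

variable {c δ π}

/-- The idempotent of the block. -/
noncomputable def eps (δ : Fin d → R) : ⨂[A] _ : Fin d, R := PiTensorProduct.tprod A δ

theorem eps_mul_self (h : IsBlock c δ π) : eps (A := A) δ * eps δ = eps δ := by
  rw [eps, PiTensorProduct.tprod_mul_tprod]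
  exact congrArg _ (funext h.idem)

theorem theta_eps (h : IsBlock c δ π) : theta π (eps δ) = 1 := by
  rw [eps, theta_tprod]; exact Finset.prod_eq_one fun i _ => h.one i

theorem exists_section (h : IsBlock c δ π) :
    ∃ S : C →ₗ[A] (⨂[A] _ : Fin d, R), (∀ f, theta π (S f) = f) ∧ (∀ f, eps δ * S f = S f) ∧
      ∀ x, S (theta π x) = eps δ * x := by
  classical
  let T := ⨂[A] _ : Fin d, R
  let ε : T := eps δ
  let I : Ideal T := Ideal.span {1 - ε}
  have hε : ε * ε = ε := h.eps_mul_self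
  have hsingle : ∀ i, ε * PiTensorProduct.singleAlgHom (R := A) (A := fun _ : Fin d => R) i (δ i) = ε := by
    intro i
    change eps δ * _ = eps δ
    simp only [eps, PiTensorProduct.singleAlgHom_apply, MonoidHom.mulSingle_apply]
    rw [PiTensorProduct.tprod_mul_tprod]
    congr 1
    funext j
    by_cases hj : j = i
    · subst hj; simp [h.idem]
    · simp [hj]
  have hg : ∀ i, (Ideal.Quotient.mkₐ A I) (PiTensorProduct.singleAlgHom (A := fun _ : Fin d => R) i (δ i)) = 1 := by
    intro i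
    rw [← map_one (Ideal.Quotient.mkₐ A I)]
    refine Ideal.Quotient.eq.mpr (Ideal.mem_span_singleton'.mpr
      ⟨PiTensorProduct.singleAlgHom (A := fun _ : Fin d => R) i (δ i) - 1, ?_⟩)
    have := hsingle i
    linear_combination (-1 : T) * this
  obtain ⟨J, hJ⟩ := h.exists_lift (T ⧸ I)
    (fun i => (Ideal.Quotient.mkₐ A I).comp (PiTensorProduct.singleAlgHom (A := fun _ : Fin d => R) i)) hg
  have hmul : (I.restrictScalars A) ≤ LinearMap.ker (LinearMap.mulLeft A ε) := by
    intro x hx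
    obtain ⟨y, rfl⟩ := Ideal.mem_span_singleton'.mp hx
    change ε * (y * (1 - ε)) = 0
    linear_combination (-y) * hε
  let m : T ⧸ I →ₗ[A] T := ((I.restrictScalars A).liftQ _ hmul).comp
    (Submodule.Quotient.restrictScalarsEquiv A I).symm.toLinearMap
  have hm : ∀ x : T, m (Ideal.Quotient.mkₐ A I x) = ε * x := fun x => rfl
  have hJθ : J.comp (theta π) = Ideal.Quotient.mkₐ A I := by
    refine PiTensorProduct.algHom_ext fun i => AlgHom.ext fun r => ?_
    simp only [AlgHom.comp_apply, theta_single]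
    exact AlgHom.congr_fun (hJ i) r
  have hker : ∀ x ∈ I, theta π x = 0 := by
    intro x hx
    obtain ⟨y, rfl⟩ := Ideal.mem_span_singleton'.mp hx
    rw [map_mul, map_sub, map_one, show theta π ε = 1 from h.theta_eps, sub_self, mul_zero]
  let θ' : T ⧸ I →ₐ[A] C := Ideal.Quotient.liftₐ I (theta π) hker
  have hθJ : θ'.comp J = AlgHom.id A C := h.ext _ fun i => by
    rw [AlgHom.comp_assoc, hJ]
    exact AlgHom.ext fun r => theta_single π i r
  have hθm : ∀ z, theta π (m z) = θ' z := by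
    intro z
    obtain ⟨x, rfl⟩ := Ideal.Quotient.mkₐ_surjective A I z
    rw [hm, map_mul, show theta π ε = 1 from h.theta_eps, one_mul]
    rfl
  refine ⟨m.comp J.toLinearMap, fun f => ?_, fun f => ?_, fun x => ?_⟩
  · rw [LinearMap.comp_apply, hθm]
    exact AlgHom.congr_fun hθJ f
  · obtain ⟨x, hx⟩ := Ideal.Quotient.mkₐ_surjective A I (J f)
    change ε * m (J f) = m (J f)
    rw [← hx, hm, ← mul_assoc, hε]
  · change m ((J.comp (theta π)) x) = _
    rw [hJθ]
    exact hm x

variable (a : Equiv.Perm (Fin d) → (C →ₐ[A] C))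

theorem theta_perm (σ : Equiv.Perm (Fin d)) (hσ : ∀ i r, a σ (π i r) = π (σ i) r)
    (x : ⨂[A] _ : Fin d, R) : theta π (SymTen.perm A R d σ x) = a σ (theta π x) := by
  have : (theta π).comp (SymTen.perm A R d σ) = (a σ).comp (theta π) :=
    PiTensorProduct.algHom_ext fun i => AlgHom.ext fun r => by
      simp only [AlgHom.comp_apply, PLaw.perm_single, theta_single, hσ]
  exact AlgHom.congr_fun this x

theorem perm_eps_of_mem (h : IsBlock c δ π) {σ : Equiv.Perm (Fin d)} (hσ : σ ∈ colStab c) :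
    SymTen.perm A R d σ (eps δ) = eps δ := by
  rw [eps, SymTen.perm_tprod]
  congr 1
  funext i
  exact h.col _ _ (by simpa using (hσ (σ.symm i)).symm)

theorem eps_mul_perm_eps (h : IsBlock c δ π) {σ : Equiv.Perm (Fin d)} (hσ : σ ∉ colStab c) :
    eps δ * SymTen.perm A R d σ (eps δ) = 0 := by
  obtain ⟨i, hi⟩ := not_forall.mp hσ
  rw [eps, SymTen.perm_tprod, PiTensorProduct.tprod_mul_tprod]
  refine MultilinearMap.map_coord_zero _ (σ i) ?_
  simpa using (h.orth (σ i) i).resolve_left hi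

/-- Every invariant of the block comes from a symmetric tensor, linearly. -/
theorem exists_lift_TS (h : IsBlock c δ π) (ha : ∀ σ ∈ colStab c, ∀ i r, a σ (π i r) = π (σ i) r) :
    ∃ F : C →ₗ[A] (⨂[A] _ : Fin d, R), ∀ f, (∀ σ ∈ colStab c, a σ f = f) →
      F f ∈ PLaw.symTen A R d ∧ theta π (F f) = f := by
  classical
  obtain ⟨S, h1, h2, h3⟩ := h.exists_section
  let H := colStab c
  letI := Fintype.ofFinite (Equiv.Perm (Fin d) ⧸ H)
  refine ⟨∑ q : Equiv.Perm (Fin d) ⧸ H, (SymTen.perm A R d q.out).toLinearMap ∘ₗ S, fun f hf => ?_⟩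
  have hSf : ∀ σ ∈ H, SymTen.perm A R d σ (S f) = S f := by
    intro σ hσ
    conv_rhs => rw [← hf σ hσ, ← h1 f, ← theta_perm a σ (ha σ hσ), h3]
    conv_lhs => rw [← h2 f, map_mul, h.perm_eps_of_mem hσ]
  have happ : (∑ q : Equiv.Perm (Fin d) ⧸ H, (SymTen.perm A R d q.out).toLinearMap ∘ₗ S) f =
      ∑ q : Equiv.Perm (Fin d) ⧸ H, SymTen.perm A R d q.out (S f) := by simp
  rw [happ]
  refine ⟨PLaw.TS_mem_iff.mp (PLaw.mem_TS_iff_perm.mpr fun g => ?_), ?_⟩
  · rw [map_sum]
    refine Fintype.sum_equiv (MulAction.toPerm g) _ _ fun x => ?_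
    obtain ⟨k, hk⟩ := QuotientGroup.mk_out_eq_mul H (g * x.out)
    have : MulAction.toPerm g x = ((g * x.out : Equiv.Perm (Fin d)) : Equiv.Perm (Fin d) ⧸ H) := by
      conv_lhs => rw [← x.out_eq']
      rfl
    rw [this, hk, PLaw.perm_comp, ← PLaw.perm_comp (g * x.out) k.1, hSf _ k.2]
  · rw [map_sum, Finset.sum_eq_single ((1 : Equiv.Perm (Fin d)) : Equiv.Perm (Fin d) ⧸ H)
      (fun q _ hq => ?_) (fun hq => absurd (Finset.mem_univ _) hq)]
    · obtain ⟨k, hk⟩ := QuotientGroup.mk_out_eq_mul H (1 : Equiv.Perm (Fin d))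
      rw [hk, one_mul, hSf _ k.2, h1]
    · have hout : q.out ∉ H := fun hmem => hq (by
        rw [← q.out_eq']; exact QuotientGroup.eq.mpr (by simpa using hmem))
      rw [← h2 f, map_mul, map_mul, ← one_mul (theta π (SymTen.perm A R d q.out (eps δ))),
        ← h.theta_eps, ← map_mul (theta π) (eps δ), h.eps_mul_perm_eps hout, map_zero, zero_mul]

theorem cf_tpow_gen_fin {n : ℕ} (b : Fin n → R) (α : Fin n →₀ ℕ) :
    PLaw.cf α ((SymTen.tpowLaw A R d).law.toFun' (MvPolynomial (Fin n) A) (PLaw.gen A b Finset.univ)) =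
      PLaw.orb d b α := by
  classical
  rw [PLaw.gen, PLaw.tpowLaw_sum, map_sum]
  have hterm : ∀ c : Fin d → Fin n,
      PLaw.cf α ((∏ i, (MvPolynomial.X (c i) : MvPolynomial (Fin n) A)) ⊗ₜ[A]
        PiTensorProduct.tprod A fun i => b (c i)) =
      if PLaw.cnt c = α then PiTensorProduct.tprod A fun i => b (c i) else 0 := by
    intro c
    have : (∏ i, (MvPolynomial.X (c i) : MvPolynomial (Fin n) A)) = MvPolynomial.monomial (PLaw.cnt c) 1 := by
      simp only [MvPolynomial.X, PLaw.cnt, ← MvPolynomial.monomial_sum_one]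
    rw [this, PLaw.cf_monomial_tmul, one_smul]
  simp only [hterm, ← Finset.sum_filter, PLaw.orb]
  exact Finset.sum_congr (Finset.ext fun c => by simp [PLaw.mem_words]) fun _ _ => rfl

theorem symTen_le_span_orb [Module.Flat A R] {G : Set R} (hG : Submodule.span A G = ⊤) :
    PLaw.symTen A R d ≤ Submodule.span A {t | ∃ (n : ℕ) (b : Fin n → R) (α : Fin n →₀ ℕ),
      (∀ k, b k ∈ G) ∧ PLaw.orb d b α = t} := by
  obtain ⟨τ, hτv, hτ⟩ := PLaw.exists_isGammaD_TS (A := A) (B := R) (d := d) (Or.inl inferInstance)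
  intro t ht
  have h1 : (⟨t, PLaw.TS_mem_iff.mpr ht⟩ : SymTen.TS A R d) ∈ (⊤ : Submodule A (SymTen.TS A R d)) :=
    Submodule.mem_top
  rw [← PLaw.span_cf_gamma_eq_top hτ hG] at h1
  have h2 := Submodule.mem_map_of_mem (f := (SymTen.TS A R d).val.toLinearMap) h1
  rw [Submodule.map_span] at h2
  refine Submodule.span_mono ?_ h2
  rintro _ ⟨_, ⟨n, b, α, hb, rfl⟩, rfl⟩
  refine ⟨n, b, α, hb, ?_⟩
  rw [← cf_tpow_gen_fin, ← hτv, PLaw.cf_lTensor]

theorem theta_orb {n : ℕ} (b : Fin n → R) (α : Fin n →₀ ℕ) :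
    theta π (PLaw.orb d b α) = worb (fun i => π i) b α := by
  simp [PLaw.orb, worb, theta_tprod]

/-- Invariants of the block are spanned by orbit sums from a spanning set. -/
theorem mem_span_worb [Module.Flat A R] (h : IsBlock c δ π)
    (ha : ∀ σ ∈ colStab c, ∀ i r, a σ (π i r) = π (σ i) r) {G : Set R}
    (hG : Submodule.span A G = ⊤) {f : C} (hf : ∀ σ ∈ colStab c, a σ f = f) :
    f ∈ Submodule.span A {c | ∃ (n : ℕ) (b : Fin n → R) (α : Fin n →₀ ℕ),
      (∀ k, b k ∈ G) ∧ worb (fun i => π i) b α = c} := by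
  obtain ⟨F, hF⟩ := h.exists_lift_TS a ha
  obtain ⟨hmem, heq⟩ := hF f hf
  have := Submodule.mem_map_of_mem (f := (theta π).toLinearMap) (symTen_le_span_orb hG hmem)
  rw [Submodule.map_span] at this
  rw [← heq]
  refine Submodule.span_mono ?_ this
  rintro _ ⟨_, ⟨n, b, α, hb, rfl⟩, rfl⟩
  exact ⟨n, b, α, hb, (theta_orb b α).symm⟩

/-- The invariants of the block of a flat algebra form a flat module. -/
theorem flat_invariants [Module.Flat A R] (h : IsBlock c δ π)
    (ha : ∀ σ ∈ colStab c, ∀ i r, a σ (π i r) = π (σ i) r) (N : Submodule A C)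
    (hN : ∀ f, f ∈ N ↔ ∀ σ ∈ colStab c, a σ f = f) : Module.Flat A N := by
  obtain ⟨F, hF⟩ := h.exists_lift_TS a ha
  have := PLaw.flat_symTen (A := A) (M := R) (d := d)
  let i : N →ₗ[A] PLaw.symTen A R d :=
    (F.comp N.subtype).codRestrict _ fun f => (hF f ((hN _).mp f.2)).1
  let r : PLaw.symTen A R d →ₗ[A] N :=
    ((theta π).toLinearMap.comp (PLaw.symTen A R d).subtype).codRestrict _ fun t => (hN _).mpr fun σ hσ => by
      change a σ (theta π (t : ⨂[A] _ : Fin d, R)) = theta π (t : ⨂[A] _ : Fin d, R)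
      rw [← theta_perm a σ (ha σ hσ), SymTen.perm_apply, PLaw.mem_symTen.mp t.2 σ]
  exact Module.Flat.of_retract i r (LinearMap.ext fun f => Subtype.ext (hF f ((hN _).mp f.2)).2)

end IsBlock

end Groth.Agent.SymCmp
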